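import Cfsg.Agent.Lib.Phan.Three.Middle

/-!
# The standard triple
-/

set_option autoImplicit false
set_option linter.all false

namespace CfsgLib.Phan.Three

open Matrix CfsgLib.SU CfsgLib.Phan CfsgLib.Lie.BoundedPres.SUBase
open CfsgLib.Lie.BoundedPres.SUGraph

universe u

variable {F : Type u} [Field F] [Fintype F] {C : UCtx F 3} {G : Type*} [Group G]
  {g : ↥(Cfsg.SU 4 F 3) →* G} {φ₀ φ₁ : ↥(Cfsg.SU 3 F 3) →* G}

/-- the blocks under a diagonal semilinear automorphism -/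
theorem diag_bk {α : MulAut ↥(Cfsg.SU 4 F 3)} {d : Fin 4 → F} (hd : ∀ i, d i ≠ 0) {σ : RingAut F}
    (hα : ∀ Y i j, (α Y).1.1 i j = d i * σ (Y.1.1 i j) * (d j)⁻¹) {i : ℕ} (hi : i + 2 ≤ 4) {c : F}
    (hc : d ⟨i + 1, by omega⟩ = c * d ⟨i, by omega⟩) {A B : ↥(Cfsg.SU 2 F 3)}
    (hB : ∀ r s, B.1.1 r s = ![1, c] r * σ (A.1.1 r s) * (![1, c] s)⁻¹) :
    α (bk C i hi A) = bk C i hi B := by
  refine Subtype.ext (Subtype.ext (Matrix.ext fun r s => ?_))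
  rw [hα]
  have hd0 := hd ⟨i, by omega⟩
  have hc0 : c ≠ 0 := fun e => hd ⟨i + 1, by omega⟩ (by rw [hc, e, zero_mul])
  have h0 := hd 0
  have h1 := hd 1
  have h2 := hd 2
  have h3 := hd 3
  obtain rfl | rfl | rfl : i = 0 ∨ i = 1 ∨ i = 2 := by omega
  all_goals
    simp only [Fin.mk_one, Fin.zero_eta, show (⟨2, by norm_num⟩ : Fin 4) = 2 from rfl,
      show (⟨3, by norm_num⟩ : Fin 4) = 3 from rfl, Nat.reduceAdd] at hc
    fin_cases r <;> fin_cases s <;>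
      simp [emb_val, enlarge, inc, win, Matrix.mul_apply, Fin.sum_univ_two, hB, hc, Matrix.one_apply] <;>
      field_simp

/-- the action of the torus of the second block on the first -/
theorem torus_act {p : F} (hp : p * C.bar p + 0 * C.bar 0 = 1)
    (hp' : (0 : F) * C.bar 0 + p * C.bar p = 1) :
    e1 C (su2 C p 0 hp) * e0 C (wTwo C) = e0 C (su2 C 0 p hp') * e1 C (su2 C p 0 hp) := by
  refine Subtype.ext (Subtype.ext ?_)
  show (e1 C (su2 C p 0 hp)).1.1 * (e0 C (wTwo C)).1.1 = (e0 C (su2 C 0 p hp')).1.1 * (e1 C (su2 C p 0 hp)).1.1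
  have h0 : p * C.bar p = 1 := by simpa using hp
  ext i j
  fin_cases i <;> fin_cases j <;>
    simp [emb_val, enlarge, inc, win, wTwo, su2, UCtx.mkSU, Matrix.mul_apply, Fin.sum_univ_three, Fin.sum_univ_two,
      Matrix.one_apply] <;> first | linear_combination h0 | linear_combination -h0

theorem norm_right {s : ↥(Cfsg.SU 2 F 3)} (hs : s ∈ dTor) (X : ↥(Cfsg.SU 3 F 3)) (hX : X ∈ (e1 C).range) :
    e0 C s * X * (e0 C s)⁻¹ ∈ (e1 C).range := by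
  obtain ⟨p, r, h, rfl⟩ := su2_eq (C := C) s
  have hr : r = 0 := by simpa [su2, UCtx.mkSU] using hs.2
  subst hr
  have hp : p ≠ 0 := fun e => by rw [e] at h; simp at h
  set T := e0 C (su2 C p 0 h)
  have hT : T.1.1 *ᵥ sv 0 = p • (sv 0 : Fin 3 → F) := by
    rw [show (sv 0 : Fin 3 → F) = sv (win (n := 3) 2 0 (by norm_num) 0) from rfl]
    exact emb_sv_eigen _ (su2_col0.trans (by simp))
  have hT' : (T⁻¹).1.1 *ᵥ sv 0 = p⁻¹ • (sv 0 : Fin 3 → F) := by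
    have h1 := su_inv_mulVec T (sv 0)
    rw [hT, Matrix.mulVec_smul] at h1
    exact (eq_inv_smul_iff₀ hp).2 h1
  refine mem_e1.2 ?_
  rw [suMat_mulVec_mul, suMat_mulVec_mul, hT', Matrix.mulVec_smul, mem_e1.1 hX, Matrix.mulVec_smul, hT,
    inv_smul_smul₀ hp]

include C in
theorem mem_dTor_of {X : ↥(Cfsg.SU 2 F 3)} (h : X.1.1 1 0 = 0 ∨ X.1.1 0 1 = 0) : X ∈ dTor := by
  obtain ⟨p, r, hpr, rfl⟩ := su2_eq (C := C) X
  have hr : r = 0 := by
    rcases h with h | h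
    · simpa [su2, UCtx.mkSU] using h
    · simpa [su2, UCtx.mkSU] using h
  subst hr
  exact ⟨by simp [su2, UCtx.mkSU], by simp [su2, UCtx.mkSU]⟩

theorem ringAut_eq_one (hF : Fintype.card F = 3 ^ 2) {l : F} (hl : l * l = -1) (hlb : C.bar l = -l) {σ : RingAut F}
    (hσl : σ l = l) (x : F) : σ x = x := by
  have hfix : ∀ s : F, C.bar s = s → σ s = s := fun s hs => by
    rcases fixed_cases (C := C) hF hs with rfl | rfl | rfl <;> simp
  have h1 : σ x + σ (C.bar x) = x + C.bar x := by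
    rw [← map_add]; exact hfix _ (by rw [map_add, C.bar_bar, add_comm])
  have h2 : σ x - σ (C.bar x) = x - C.bar x := by
    have h3 := hfix ((x - C.bar x) * l) (by rw [map_mul, map_sub, C.bar_bar, hlb]; ring)
    rw [map_mul, map_sub, hσl] at h3
    exact mul_right_cancel₀ (fun e => by rw [e] at hl; simp at hl) h3
  exact mul_left_cancel₀ (two_ne hF) (by linear_combination h1 + h2)

include C in
theorem exists_twist {c : F} (hc : c * C.bar c = 1) (σ : RingAut F) (A : ↥(Cfsg.SU 2 F 3)) :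
    ∃ B : ↥(Cfsg.SU 2 F 3), ∀ r s, B.1.1 r s = ![1, c] r * σ (A.1.1 r s) * (![1, c] s)⁻¹ := by
  obtain ⟨τ, hτ⟩ := exists_diag (C := C) (n := 2) ![1, c] (fun i => by fin_cases i <;> simp [hc]) σ
  exact ⟨τ A, hτ A⟩

/-- the torus and a middle fixed vector -/
theorem torus_of_norm (hF : Fintype.card F = 3 ^ 2) (hg : g.ker ≤ Subgroup.center _) {i j : ℕ} (hi : i + 2 ≤ 4)
    (hj : j + 2 ≤ 4) {f₁ f₂ : ↥(Cfsg.SU 2 F 3) →* G} (β : MulAut ↥(Cfsg.SU 2 F 3))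
    (hβ : ∀ A, g (bk C i hi (β A)) = f₁ A) (hr : (g.comp (bk C j hj)).range = f₂.range)
    (hn : ∀ s ∈ dTor, ∀ B, f₁ s * f₂ B * (f₁ s)⁻¹ ∈ f₂.range) {s : ↥(Cfsg.SU 2 F 3)} (hs : s ∈ dTor)
    {l : Fin 4} (hl : l.val < j ∨ j + 2 ≤ l.val) :
    ((bk C i hi (β s)).1.1 *ᵥ sv l) (win (n := 4) 2 j hj 0) = 0 ∧
      ((bk C i hi (β s)).1.1 *ᵥ sv l) (win (n := 4) 2 j hj 1) = 0 := by
  refine norm_coord (C := C) hF (fun A => ?_) hl
  have := conj_mem (C := C) hg hF (inj_bk (C := C) hg hj) (Y := (bk C i hi (β s))⁻¹) (fun B => ?_) A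
  · rwa [inv_inv] at this
  · obtain ⟨B', hB'⟩ : g (bk C j hj B) ∈ f₂.range := hr.le ⟨B, rfl⟩
    rw [hr, ← map_inv (bk C i hi), ← map_inv β, hβ, show g (bk C j hj B) = f₂ B' from hB'.symm]
    exact hn _ (inv_mem hs) B'

theorem Data.torus_zero (D : Data C g φ₀ φ₁) (hF : Fintype.card F = 3 ^ 2)
    (e₁ : (g.comp (bk C 1 (by norm_num))).range = (φ₀.comp (e1 C)).range) (β : MulAut ↥(Cfsg.SU 2 F 3))
    (hβ : ∀ A, g (bk C 0 (by norm_num) (β A)) = φ₀ (e0 C A)) : ∀ s ∈ dTor, β s ∈ dTor := by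
  intro s hs
  have h := (torus_of_norm (C := C) hF D.ker (i := 0) (j := 1) (by norm_num) (by norm_num)
    (f₁ := φ₀.comp (e0 C)) β hβ e₁ (fun s hs B => by
      obtain ⟨B', hB'⟩ := norm_right (C := C) hs (e1 C B) ⟨B, rfl⟩
      exact ⟨B', by show φ₀ (e1 C B') = _; rw [hB', map_mul, map_mul, map_inv]; rfl⟩) hs (l := 0)
    (Or.inl (by simp))).1
  refine mem_dTor_of (C := C) (Or.inl ?_)
  simpa [emb_val, enlarge, inc, win, sv, Matrix.mul_apply, Fin.sum_univ_two, Matrix.one_apply] using h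

theorem Data.torus_one (D : Data C g φ₀ φ₁) (hF : Fintype.card F = 3 ^ 2)
    (e₀ : (g.comp (bk C 0 (by norm_num))).range = (φ₀.comp (e0 C)).range) (β : MulAut ↥(Cfsg.SU 2 F 3))
    (hβ : ∀ A, g (bk C 1 (by norm_num) (β A)) = φ₀ (e1 C A)) : ∀ s ∈ dTor, β s ∈ dTor := by
  intro s hs
  have h := (torus_of_norm (C := C) hF D.ker (i := 1) (j := 0) (by norm_num) (by norm_num)
    (f₁ := φ₀.comp (e1 C)) β hβ e₀ (fun s hs B => by
      obtain ⟨B', hB'⟩ := norm_left (C := C) hs (e0 C B) ⟨B, rfl⟩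
      exact ⟨B', by show φ₀ (e0 C B') = _; rw [hB', map_mul, map_mul, map_inv]; rfl⟩) hs (l := 2)
    (Or.inr (by simp))).2
  refine mem_dTor_of (C := C) (Or.inr ?_)
  simpa [emb_val, enlarge, inc, win, sv, Matrix.mul_apply, Fin.sum_univ_two, Matrix.one_apply] using h

theorem Data.torus_two (D : Data C g φ₀ φ₁) (hF : Fintype.card F = 3 ^ 2)
    (e₁ : (g.comp (bk C 1 (by norm_num))).range = (φ₀.comp (e1 C)).range) (β : MulAut ↥(Cfsg.SU 2 F 3))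
    (hβ : ∀ A, g (bk C 2 (by norm_num) (β A)) = φ₁ (e1 C A)) : ∀ s ∈ dTor, β s ∈ dTor := by
  intro s hs
  have h := (torus_of_norm (C := C) hF D.ker (i := 2) (j := 1) (by norm_num) (by norm_num)
    (f₁ := φ₁.comp (e1 C)) β hβ e₁ (fun s hs B => by
      obtain ⟨B', hB'⟩ := norm_left (C := C) hs (e0 C B) ⟨B, rfl⟩
      exact ⟨B', by show φ₀ (e1 C B') = φ₁ (e1 C s) * φ₀ (e1 C B) * (φ₁ (e1 C s))⁻¹
                    rw [D.glue, D.glue, hB', map_mul, map_mul, map_inv]⟩) hs (l := 3)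
    (Or.inr (by simp))).2
  refine mem_dTor_of (C := C) (Or.inr ?_)
  simpa [emb_val, enlarge, inc, win, sv, Matrix.mul_apply, Fin.sum_univ_two, Matrix.one_apply] using h

/-- a matched block determines the field automorphism of the next one -/
theorem next_sigma (hF : Fintype.card F = 3 ^ 2) (hg : g.ker ≤ Subgroup.center _) {φ : ↥(Cfsg.SU 3 F 3) →* G}
    {j : ℕ} (hj : j + 3 ≤ 4) (e : ∀ A, g (bk C j (by omega) A) = φ (e0 C A)) (β : MulAut ↥(Cfsg.SU 2 F 3))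
    (hβ : ∀ A, g (bk C (j + 1) (by omega) (β A)) = φ (e1 C A)) {c : F} {σ : RingAut F}
    (hcs : ∀ X, ∀ r s, (β X).1.1 r s = ![1, c] r * σ (X.1.1 r s) * (![1, c] s)⁻¹) (x : F) : σ x = x := by
  obtain ⟨l, hl, hlb⟩ := exists_root (C := C) hF
  have hlu : l * C.bar l + 0 * C.bar 0 = 1 := by rw [hlb]; linear_combination -hl
  have hlu' : (0 : F) * C.bar 0 + l * C.bar l = 1 := by linear_combination hlu
  refine ringAut_eq_one hF hl hlb ?_ x
  obtain ⟨p, r, hpr, hp⟩ := su2_eq (C := C) (β (su2 C l 0 hlu))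
  have hr0 : r = 0 := by
    have := hcs (su2 C l 0 hlu) 1 0
    rw [hp] at this
    simpa [su2, UCtx.mkSU] using this
  subst hr0
  have hσ : p = σ l := by
    have := hcs (su2 C l 0 hlu) 0 0
    rw [hp] at this
    simpa [su2, UCtx.mkSU] using this
  have hp' : (0 : F) * C.bar 0 + p * C.bar p = 1 := by linear_combination hpr
  have hL := congrArg φ (torus_act hlu hlu')
  rw [map_mul, map_mul, ← hβ, ← e, ← e, hp] at hL
  have e1' : bk C (j + 1) (by omega) (su2 C p 0 hpr) = embW C 4 3 j hj (e1 C (su2 C p 0 hpr)) :=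
    (embW_comp _).symm
  have e0' : ∀ A, bk C j (by omega) A = embW C 4 3 j hj (e0 C A) := fun A =>
    ((embW_comp A).trans (CfsgLib.Phan.embW_congr (Nat.add_zero j) A)).symm
  have hR : g (bk C (j + 1) (by omega) (su2 C p 0 hpr)) * g (bk C j (by omega) (wTwo C)) =
      g (bk C j (by omega) (su2 C 0 p hp')) * g (bk C (j + 1) (by omega) (su2 C p 0 hpr)) := by
    rw [← map_mul, ← map_mul, e1', e0', e0', ← map_mul, ← map_mul, torus_act hpr hp']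
  rw [hR] at hL
  have h1 := inj_bk (C := C) hg (i := j) (by omega) (mul_right_cancel hL)
  have h2 := congrFun (congrFun (congrArg (fun X : ↥(Cfsg.SU 2 F 3) => X.1.1) h1) 1) 0
  simp [su2, UCtx.mkSU] at h2
  rw [← hσ, h2]

/-- the standard triple -/
theorem Data.triple (hF : Fintype.card F = 3 ^ 2) (D₀ : Data C g φ₀ φ₁) :
    ∃ θ : ↥(Cfsg.SU 4 F 3) →* G, (∀ A, θ (bk C 0 (by norm_num) A) = φ₀ (e0 C A)) ∧
      (∀ A, θ (bk C 1 (by norm_num) A) = φ₀ (e1 C A)) ∧ ∀ A, θ (bk C 2 (by norm_num) A) = φ₁ (e1 C A) := by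
  classical
  obtain ⟨α₀, a0, a2⟩ := D₀.outer hF
  obtain ⟨α₁, b0, b1, b2⟩ := (D₀.comp α₀).middle hF a0 a2
  have D := (D₀.comp α₀).comp α₁
  set g₁ := (g.comp α₀.toMonoidHom).comp α₁.toMonoidHom
  -- first block
  obtain ⟨β₀, hβ₀⟩ := exists_transfer D.i0 (inj_bk (C := C) D.ker _) b0.symm
  obtain ⟨c₀, σ₀, hc₀, hcs₀⟩ := diag_aut (C := C) hF β₀ (D.torus_zero hF b1 β₀ hβ₀)
  have hc00 : c₀ ≠ 0 := left_ne_zero_of_mul_eq_one hc₀
  obtain ⟨γ₀, hγ₀⟩ := exists_diag (C := C) ![1, c₀, c₀, c₀] (fun i => by fin_cases i <;> simp [hc₀]) σ₀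
  have hnz₀ : ∀ i, (![1, c₀, c₀, c₀] : Fin 4 → F) i ≠ 0 := fun i => by fin_cases i <;> simp [hc00]
  have D2 := D.comp γ₀
  set g₂ := g₁.comp γ₀.toMonoidHom
  have f0 : ∀ A, g₂ (bk C 0 (by norm_num) A) = φ₀ (e0 C A) := fun A => by
    show g₁ (γ₀ (bk C 0 _ A)) = _
    rw [diag_bk (C := C) hnz₀ hγ₀ _ (c := c₀) (by simp) (hcs₀ A)]
    exact hβ₀ A
  have f1 : (g₂.comp (bk C 1 (by norm_num))).range = (φ₀.comp (e1 C)).range :=
    range_eq_of (C := C) hF (inj_bk (C := C) D2.ker _) D.i1 fun A _ => by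
      obtain ⟨B, hB⟩ := exists_twist (C := C) (c := (1 : F)) (by simp) σ₀ A
      show g₁ (γ₀ (bk C 1 _ A)) ∈ _
      rw [diag_bk (C := C) hnz₀ hγ₀ _ (c := 1) (by simp) hB, ← b1]
      exact ⟨B, rfl⟩
  have f2 : (g₂.comp (bk C 2 (by norm_num))).range = (φ₁.comp (e1 C)).range :=
    range_eq_of (C := C) hF (inj_bk (C := C) D2.ker _) D.i2 fun A _ => by
      obtain ⟨B, hB⟩ := exists_twist (C := C) (c := (1 : F)) (by simp) σ₀ A
      show g₁ (γ₀ (bk C 2 _ A)) ∈ _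
      rw [diag_bk (C := C) hnz₀ hγ₀ _ (c := 1) (by simp) hB, ← b2]
      exact ⟨B, rfl⟩
  -- second block
  obtain ⟨β₁, hβ₁⟩ := exists_transfer D.i1 (inj_bk (C := C) D2.ker _) f1.symm
  obtain ⟨c₁, σ₁, hc₁, hcs₁⟩ := diag_aut (C := C) hF β₁
    (D2.torus_one hF (by rw [show g₂.comp (bk C 0 (by norm_num)) = φ₀.comp (e0 C) from MonoidHom.ext f0]) β₁ hβ₁)
  have hσ₁ := next_sigma (C := C) hF D2.ker (j := 0) (φ := φ₀) (by norm_num) f0 β₁ hβ₁ hcs₁
  have hc10 : c₁ ≠ 0 := left_ne_zero_of_mul_eq_one hc₁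
  obtain ⟨γ₁, hγ₁⟩ := exists_diag (C := C) ![1, 1, c₁, c₁] (fun i => by fin_cases i <;> simp [hc₁]) 1
  have hnz₁ : ∀ i, (![1, 1, c₁, c₁] : Fin 4 → F) i ≠ 0 := fun i => by fin_cases i <;> simp [hc10]
  have D3 := D2.comp γ₁
  set g₃ := g₂.comp γ₁.toMonoidHom
  have k0 : ∀ A, g₃ (bk C 0 (by norm_num) A) = φ₀ (e0 C A) := fun A => by
    show g₂ (γ₁ (bk C 0 _ A)) = _
    rw [diag_bk (C := C) hnz₁ hγ₁ _ (c := 1) (by simp) (B := A) (fun r s => by fin_cases r <;> fin_cases s <;> simp)]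
    exact f0 A
  have k1 : ∀ A, g₃ (bk C 1 (by norm_num) A) = φ₀ (e1 C A) := fun A => by
    show g₂ (γ₁ (bk C 1 _ A)) = _
    rw [diag_bk (C := C) hnz₁ hγ₁ _ (c := c₁) (by simp) (B := β₁ A) (fun r s => by rw [hcs₁, hσ₁]; rfl)]
    exact hβ₁ A
  have k2 : (g₃.comp (bk C 2 (by norm_num))).range = (φ₁.comp (e1 C)).range :=
    range_eq_of (C := C) hF (inj_bk (C := C) D3.ker _) D.i2 fun A _ => by
      show g₂ (γ₁ (bk C 2 _ A)) ∈ _
      rw [diag_bk (C := C) hnz₁ hγ₁ _ (c := 1) (by simp) (B := A) (fun r s => by fin_cases r <;> fin_cases s <;> simp),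
        ← f2]
      exact ⟨A, rfl⟩
  -- third block
  obtain ⟨β₂, hβ₂⟩ := exists_transfer D.i2 (inj_bk (C := C) D3.ker _) k2.symm
  obtain ⟨c₂, σ₂, hc₂, hcs₂⟩ := diag_aut (C := C) hF β₂
    (D3.torus_two hF (by rw [show g₃.comp (bk C 1 (by norm_num)) = φ₀.comp (e1 C) from MonoidHom.ext k1]) β₂ hβ₂)
  have hσ₂ := next_sigma (C := C) hF D3.ker (j := 1) (φ := φ₁) (by norm_num)
    (fun A => (k1 A).trans (D.glue A)) β₂ hβ₂ hcs₂
  have hc20 : c₂ ≠ 0 := left_ne_zero_of_mul_eq_one hc₂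
  obtain ⟨γ₂, hγ₂⟩ := exists_diag (C := C) ![1, 1, 1, c₂] (fun i => by fin_cases i <;> simp [hc₂]) 1
  have hnz₂ : ∀ i, (![1, 1, 1, c₂] : Fin 4 → F) i ≠ 0 := fun i => by fin_cases i <;> simp [hc20]
  refine ⟨g₃.comp γ₂.toMonoidHom, fun A => ?_, fun A => ?_, fun A => ?_⟩
  · show g₃ (γ₂ (bk C 0 _ A)) = _
    rw [diag_bk (C := C) hnz₂ hγ₂ _ (c := 1) (by simp) (B := A) (fun r s => by fin_cases r <;> fin_cases s <;> simp)]
    exact k0 A
  · show g₃ (γ₂ (bk C 1 _ A)) = _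
    rw [diag_bk (C := C) hnz₂ hγ₂ _ (c := 1) (by simp) (B := A) (fun r s => by fin_cases r <;> fin_cases s <;> simp)]
    exact k1 A
  · show g₃ (γ₂ (bk C 2 _ A)) = _
    rw [diag_bk (C := C) hnz₂ hγ₂ _ (c := c₂) (by simp) (B := β₂ A) (fun r s => by rw [hcs₂, hσ₂]; rfl)]
    exact hβ₂ A

end CfsgLib.Phan.Three
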