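import Cfsg.Agent.Lib.Phan.Three.SUTwo
import Cfsg.Agent.Lib.Phan.Main

/-!
# Involutions and blocks in dimension four over the field with nine elements
-/

set_option autoImplicit false
set_option linter.all false

namespace CfsgLib.Phan.Three

open Matrix CfsgLib.SU CfsgLib.Phan CfsgLib.Lie.BoundedPres.SUBase
open CfsgLib.Lie.BoundedPres.SUGraph

universe u

variable {F : Type u} [Field F] [Fintype F] {C : UCtx F 3} {n m : ℕ}

variable (C) in
/-- a block of size two in dimension four -/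
abbrev bk (i : ℕ) (h : i + 2 ≤ 4 := by norm_num) : ↥(Cfsg.SU 2 F 3) →* ↥(Cfsg.SU 4 F 3) := embW C 4 2 i h

variable (C) in
/-- minus the identity in dimension two -/
def negTwo : ↥(Cfsg.SU 2 F 3) := su2 C (-1) 0 (by simp)

variable (C) in
/-- the element exchanging the two coordinates -/
def wTwo : ↥(Cfsg.SU 2 F 3) := su2 C 0 1 (by simp)

variable (C) in
/-- the standard involution -/
def dInv : ↥(Cfsg.SU 4 F 3) := bk C 0 (by norm_num) (negTwo C)

theorem mulVec_eq_sum {A : ↥(Cfsg.SU n F 3)} (v : Fin n → F) :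
    A.1.1 *ᵥ v = ∑ k, v k • (A.1.1 *ᵥ sv k) := by
  conv_lhs => rw [sum_sv v]
  simp only [Matrix.mulVec_sum, Matrix.mulVec_smul]

/-- a block fixes the vectors without coordinates in it -/
theorem emb_fix_vec {f : Fin m → Fin n} {hf : Function.Injective f} (A : ↥(Cfsg.SU m F 3)) {v : Fin n → F}
    (h : ∀ j, v (f j) = 0) : (emb C f hf A).1.1 *ᵥ v = v := by
  rw [mulVec_eq_sum]
  conv_rhs => rw [sum_sv v]
  refine Finset.sum_congr rfl fun k _ => ?_
  by_cases hk : ∃ j, f j = k
  · obtain ⟨j, rfl⟩ := hk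
    rw [h j, zero_smul, zero_smul]
  · push Not at hk
    rw [emb_fix A hk]

theorem emb_sv_eigen {f : Fin m → Fin n} {hf : Function.Injective f} (A : ↥(Cfsg.SU m F 3)) {j : Fin m} {c : F}
    (h : A.1.1 *ᵥ sv j = c • sv j) : (emb C f hf A).1.1 *ᵥ sv (f j) = c • sv (f j) := by
  rw [emb_sv, h, Matrix.mulVec_smul, inc_mulVec_sv]

theorem dInv_sv (i : Fin 4) :
    (dInv C).1.1 *ᵥ sv i = (if i.val < 2 then -1 else 1 : F) • (sv i : Fin 4 → F) := by
  by_cases hi : i.val < 2
  · rw [if_pos hi]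
    have e : i = win (n := 4) 2 0 (by norm_num) ⟨i.val, hi⟩ := Fin.ext (by simp [win])
    rw [e]
    refine emb_sv_eigen _ ?_
    generalize (⟨i.val, hi⟩ : Fin 2) = j
    fin_cases j
    · exact (su2_col0).trans (by simp)
    · exact (su2_col1).trans (by simp)
  · rw [if_neg hi, one_smul]
    exact emb_fix _ fun j e => hi (by rw [← e]; simp [win]; omega)

theorem dInv_mulVec (v : Fin 4 → F) :
    (dInv C).1.1 *ᵥ v = fun i : Fin 4 => (if i.val < 2 then -1 else 1 : F) * v i := by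
  rw [mulVec_eq_sum]
  simp only [dInv_sv]
  funext i
  rw [Finset.sum_apply, Finset.sum_eq_single i (fun b _ hb => by split_ifs <;> simp [sv, Pi.single_apply, Ne.symm hb])
    (fun h => absurd (Finset.mem_univ i) h)]
  split_ifs <;> simp [sv, mul_comm]

/-- a vector fixed by the exchange in a block has no coordinates there -/
theorem coord_of_fix (hF : Fintype.card F = 3 ^ 2) {f : Fin 2 → Fin n} {hf : Function.Injective f}
    {v : Fin n → F} (h : (emb C f hf (wTwo C)).1.1 *ᵥ v = v) : v (f 0) = 0 ∧ v (f 1) = 0 := by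
  have key : ∀ j : Fin 2, C.form v (sv (f j)) = C.form v (inc F f *ᵥ ((wTwo C).1.1 *ᵥ sv j)) := fun j => by
    have := C.form_su (emb C f hf (wTwo C)) v (sv (f j))
    rw [h, emb_sv] at this
    exact this.symm
  have h0 := key 0
  have h1 := key 1
  rw [wTwo, su2_col0] at h0
  rw [wTwo, su2_col1] at h1
  simp [Matrix.mulVec_add, Matrix.mulVec_neg, inc_mulVec_sv, form_sv_right, C.form_neg_right] at h0 h1
  have e : (2 : F) * v (f 0) = 0 := by linear_combination h0 + h1
  have e0 := (mul_eq_zero.1 e).resolve_left (two_ne hF)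
  exact ⟨e0, by linear_combination -h0 + e0⟩

/-- conjugation of a block by a permutation -/
theorem pm_emb {f : Fin m → Fin n} {hf : Function.Injective f} (π : Equiv.Perm (Fin n))
    (hs : Equiv.Perm.sign π = 1) (A : ↥(Cfsg.SU m F 3)) :
    pm C π hs * emb C f hf A = emb C (π.symm ∘ f) (π.symm.injective.comp hf) A * pm C π hs := by
  have hp : ∀ k, (pm C π hs).1.1 *ᵥ (sv k : Fin n → F) = sv (π.symm k) := fun k => by
    rw [pm_mulVec]
    funext i
    simp [sv, Pi.single_apply, Equiv.eq_symm_apply]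
  refine su_ext fun x => ?_
  rw [mulVec_eq_sum]
  conv_rhs => rw [mulVec_eq_sum]
  refine Finset.sum_congr rfl fun k _ => ?_
  congr 1
  rw [suMat_mulVec_mul, suMat_mulVec_mul, hp]
  by_cases hk : ∃ j, f j = k
  · obtain ⟨j, rfl⟩ := hk
    rw [emb_sv, show π.symm (f j) = (π.symm ∘ f) j from rfl, emb_sv, pm_mulVec]
    generalize A.1.1 *ᵥ sv j = u
    funext i
    simp [inc, Matrix.mulVec, dotProduct, Equiv.eq_symm_apply]
  · push Not at hk
    rw [emb_fix A hk, hp, emb_fix (f := π.symm ∘ f) A fun j e => hk j (π.symm.injective e)]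

/-- one more eigenvector of an involution -/
theorem eigen_step (hF : Fintype.card F = 3 ^ 2) {z : ↥(Cfsg.SU 4 F 3)} (hz : z * z = 1) {k : ℕ} (hk : k < 4)
    (o : Fin k → Fin 4 → F) (ho : ∀ i j, C.form (o i) (o j) = if i = j then 1 else 0)
    (he : ∀ i, ∃ e : F, e * e = 1 ∧ C.bar e = e ∧ z.1.1 *ᵥ o i = e • o i) :
    ∃ u : Fin 4 → F, C.form u u = 1 ∧ (∀ i, C.form u (o i) = 0) ∧ (z.1.1 *ᵥ u = u ∨ z.1.1 *ᵥ u = -u) := by
  obtain ⟨x, hx, hxo, -⟩ := exists_unit_perp (C := C) o ho (Fin.elim0 : Fin 0 → Fin 4 → F) (by omega)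
  have hzz : ∀ v : Fin 4 → F, z.1.1 *ᵥ (z.1.1 *ᵥ v) = v := fun v => by
    rw [← suMat_mulVec_mul, hz, su_one_mulVec]
  have hp : ∀ i, C.form (z.1.1 *ᵥ x) (o i) = 0 := fun i => by
    obtain ⟨e, -, -, hei⟩ := he i
    rw [← C.form_su z, hzz, hei, C.form_smul_right, hxo i, mul_zero]
  set y := z.1.1 *ᵥ x with hy
  have fin : ∀ (v : Fin 4 → F), C.form v v ≠ 0 → (∀ i, C.form v (o i) = 0) →
      (z.1.1 *ᵥ v = v ∨ z.1.1 *ᵥ v = -v) →
      ∃ u : Fin 4 → F, C.form u u = 1 ∧ (∀ i, C.form u (o i) = 0) ∧ (z.1.1 *ᵥ u = u ∨ z.1.1 *ᵥ u = -u) := by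
    intro v hv hvo hvz
    obtain ⟨c, -, hc⟩ := exists_normalise (C := C) hv
    refine ⟨c • v, hc, fun i => by rw [C.form_smul_left, hvo i, mul_zero], ?_⟩
    rcases hvz with e | e
    · exact Or.inl (by rw [Matrix.mulVec_smul, e])
    · exact Or.inr (by rw [Matrix.mulVec_smul, e, smul_neg])
  have hyy : C.form y y = 1 := by rw [hy, C.form_su, hx]
  by_cases h : C.form (x + y) (x + y) = 0
  swap
  · exact fin _ h (fun i => by rw [C.form_add_left, hxo i, hp i, add_zero])
      (Or.inl (by rw [Matrix.mulVec_add, ← hy, hy, hzz, ← hy, add_comm]))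
  · refine fin (x - y) ?_ (fun i => by rw [C.form_sub_left, hxo i, hp i, sub_zero])
      (Or.inr (by rw [Matrix.mulVec_sub, ← hy, hy, hzz, ← hy, neg_sub]))
    intro h'
    simp only [C.form_add_left, C.form_add_right, C.form_sub_left, C.form_sub_right, hx, hyy] at h h'
    have h4 : (4 : F) = 0 := by linear_combination h + h'
    exact one_ne_zero (α := F) (by linear_combination h4 - three_eq_zero hF)

theorem perm_pick : ∀ ε : Fin 4 → Bool,
    (Finset.univ.filter fun i => ε i = true).card % 2 = 0 → (∃ i, ε i = true) → (∃ i, ε i = false) →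
    ∃ π : Equiv.Perm (Fin 4), Equiv.Perm.sign π = 1 ∧ ∀ i, ε (π.symm i) = decide (i.val < 2) := by
  decide

/-- involutions are conjugate to the standard one -/
theorem invol_frame (hF : Fintype.card F = 3 ^ 2) {z : ↥(Cfsg.SU 4 F 3)} (hz : z * z = 1)
    (hzc : z ∉ Subgroup.center ↥(Cfsg.SU 4 F 3)) :
    ∃ M : ↥(Cfsg.SU 4 F 3), M⁻¹ * z * M = dInv C := by
  classical
  have sgn : ∀ {u : Fin 4 → F}, z.1.1 *ᵥ u = u ∨ z.1.1 *ᵥ u = -u →
      ∃ e : F, e * e = 1 ∧ C.bar e = e ∧ z.1.1 *ᵥ u = e • u := fun {u} h => by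
    rcases h with e | e
    · exact ⟨1, by ring, map_one _, by rw [e, one_smul]⟩
    · exact ⟨-1, by ring, by simp, by rw [e, neg_smul, one_smul]⟩
  obtain ⟨a, haa, -, haz⟩ := eigen_step hF hz (k := 0) (by norm_num) Fin.elim0 (fun i => i.elim0) fun i => i.elim0
  obtain ⟨b, hbb, hba', hbz⟩ := eigen_step hF hz (k := 1) (by norm_num) ![a]
    (fun i j => by fin_cases i; fin_cases j; simpa using haa) fun i => by fin_cases i; exact sgn haz
  have hba : C.form b a = 0 := hba' 0
  obtain ⟨c, hcc, hco, hcz⟩ := eigen_step hF hz (k := 2) (by norm_num) ![a, b]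
    (on_two haa hbb (C.form_swap_zero hba))
    fun i => by fin_cases i; exacts [sgn haz, sgn hbz]
  have hca : C.form c a = 0 := hco 0
  have hcb : C.form c b = 0 := hco 1
  have e3 : ∀ i j : Fin 3, C.form (sv (Fin.castSucc i) : Fin 4 → F) (sv (Fin.castSucc j)) =
      if i = j then 1 else 0 := fun i j => by rw [form_sv]; simp [Fin.ext_iff]
  obtain ⟨M₁, hM₁⟩ := exists_su_move_tuple (C := C) (t := fun i : Fin 3 => (sv (Fin.castSucc i) : Fin 4 → F))
    (t' := ![a, b, c]) (li_coord C e3) (li_coord C (on_three haa hbb hcc (C.form_swap_zero hba)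
      (C.form_swap_zero hca) (C.form_swap_zero hcb))) (fun i j => by
        rw [e3, on_three haa hbb hcc (C.form_swap_zero hba) (C.form_swap_zero hca) (C.form_swap_zero hcb)])
    (w := sv 3) (by rw [form_sv, if_pos rfl]) fun i => by
      rw [form_sv, if_neg]; fin_cases i <;> simp [Fin.ext_iff]
  set y := M₁⁻¹ * z * M₁ with hy
  have hyy : y * y = 1 := by rw [hy, show M₁⁻¹ * z * M₁ * (M₁⁻¹ * z * M₁) = M₁⁻¹ * (z * z) * M₁ by group, hz]; group
  have he : ∀ i : Fin 3, ∃ e : F, e * e = 1 ∧ C.bar e = e ∧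
      y.1.1 *ᵥ sv (Fin.castSucc i) = e • (sv (Fin.castSucc i) : Fin 4 → F) := by
    intro i
    obtain ⟨e, h1, h2, h3⟩ : ∃ e : F, e * e = 1 ∧ C.bar e = e ∧ z.1.1 *ᵥ ![a, b, c] i = e • ![a, b, c] i := by
      fin_cases i
      exacts [sgn haz, sgn hbz, sgn hcz]
    refine ⟨e, h1, h2, ?_⟩
    rw [hy, suMat_mulVec_mul, suMat_mulVec_mul, hM₁, h3, Matrix.mulVec_smul, ← hM₁, su_inv_mulVec]
  choose e he1 he2 he3 using he
  have hl3 : ∀ i : Fin 3, (y.1.1 *ᵥ sv 3) (Fin.castSucc i) = 0 := fun i => by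
    rw [← form_sv_right (C := C) (y.1.1 *ᵥ sv 3) (Fin.castSucc i)]
    have h1 := C.form_su y (sv 3) (sv (Fin.castSucc i))
    rw [he3, C.form_smul_right, he2, form_sv (C := C) (3 : Fin 4), if_neg (by fin_cases i <;> simp [Fin.ext_iff])] at h1
    exact (mul_eq_zero.1 h1).resolve_left (left_ne_zero_of_mul_eq_one (he1 i))
  set d := (y.1.1 *ᵥ sv 3) 3 with hd
  have hd3 : y.1.1 *ᵥ sv 3 = d • (sv 3 : Fin 4 → F) := by
    funext i
    induction i using Fin.lastCases with
    | last => simp [sv, hd, show Fin.last 3 = (3 : Fin 4) from rfl]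
    | cast i => rw [hl3]; fin_cases i <;> simp [sv, Fin.ext_iff]
  let ε : Fin 4 → F := ![e 0, e 1, e 2, d]
  have hε : ∀ i, y.1.1 *ᵥ sv i = ε i • (sv i : Fin 4 → F) := by
    intro i
    fin_cases i
    exacts [he3 0, he3 1, he3 2, hd3]
  have hdiag : y.1.1 = Matrix.diagonal ε := by
    ext i j
    have := congrFun (hε j) i
    simp [sv, Matrix.mulVec_single_one, Pi.single_apply] at this
    rw [this, Matrix.diagonal_apply]
    split_ifs with h <;> simp_all
  have hprod : ε 0 * ε 1 * ε 2 * ε 3 = 1 := by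
    have := y.1.2
    rw [hdiag, Matrix.det_diagonal, Fin.prod_univ_four] at this
    exact this
  have hsq : ∀ i, ε i = 1 ∨ ε i = -1 := fun i => by
    refine mul_self_eq_one_iff.1 ?_
    have := congrFun (congrFun (congrArg (fun X : ↥(Cfsg.SU 4 F 3) => X.1.1) hyy) i) i
    simp only [show ((y * y : ↥(Cfsg.SU 4 F 3))).1.1 = y.1.1 * y.1.1 from rfl, hdiag,
      Matrix.diagonal_mul_diagonal, Matrix.diagonal_apply_eq] at this
    exact this.trans (Matrix.one_apply_eq i)
  let εb : Fin 4 → Bool := fun i => decide (ε i = -1)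
  have hεb : ∀ i, ε i = if εb i then -1 else 1 := fun i => by
    rcases hsq i with h | h
    · simp [εb, h, one_ne_neg hF]
    · simp [εb, h]
  have hnc : ∀ c : F, (∀ i, ε i = c) → False := fun c hc => hzc (by
    have hyc : y ∈ Subgroup.center ↥(Cfsg.SU 4 F 3) :=
      Subgroup.mem_center_iff.2 fun g => (scalar_central (c := c)
        (by rw [hdiag, show ε = fun _ => c from funext hc, Matrix.smul_one_eq_diagonal]) g)
    have : z = M₁ * y * M₁⁻¹ := by rw [hy]; group
    rw [this, Subgroup.mem_center_iff.1 hyc M₁]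
    simpa using hyc)
  have hpar : (Finset.univ.filter fun i => εb i = true).card % 2 = 0 := by
    have h0 := hεb 0
    have h1 := hεb 1
    have h2 := hεb 2
    have h3 := hεb 3
    rw [h0, h1, h2, h3] at hprod
    revert hprod
    rw [show (Finset.univ.filter fun i => εb i = true).card =
      ∑ i : Fin 4, if εb i = true then 1 else 0 from Finset.card_filter _ _, Fin.sum_univ_four]
    cases εb 0 <;> cases εb 1 <;> cases εb 2 <;> cases εb 3 <;> simp [Ne.symm (one_ne_neg hF)]
  obtain ⟨π, hs, hπ⟩ := perm_pick εb hpar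
    (by by_contra h; push Not at h; exact hnc 1 fun i => by rw [hεb]; simp [h i])
    (by by_contra h; push Not at h; exact hnc (-1) fun i => by rw [hεb]; simp [h i])
  refine ⟨M₁ * pm C π hs, su_ext fun x => ?_⟩
  rw [mulVec_eq_sum, mulVec_eq_sum (A := dInv C)]
  refine Finset.sum_congr rfl fun k _ => congrArg _ ?_
  rw [show (M₁ * pm C π hs)⁻¹ * z * (M₁ * pm C π hs) = (pm C π hs)⁻¹ * y * pm C π hs by rw [hy]; group,
    suMat_mulVec_mul, suMat_mulVec_mul]
  have hp : (pm C π hs).1.1 *ᵥ (sv k : Fin 4 → F) = sv (π.symm k) := by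
    rw [pm_mulVec]
    funext i
    simp [sv, Pi.single_apply, Equiv.eq_symm_apply]
  rw [hp, hε, Matrix.mulVec_smul, ← hp, su_inv_mulVec, hεb, hπ, dInv_sv]
  simp

/-- the elements of order three in the centraliser of the standard involution -/
theorem block_split (hF : Fintype.card F = 3 ^ 2) {x : ↥(Cfsg.SU 4 F 3)} (hx : x ^ 3 = 1)
    (hc : Commute x (dInv C)) :
    ∃ A B, A ^ 3 = 1 ∧ B ^ 3 = 1 ∧ x = bk C 0 (by norm_num) A * bk C 2 (by norm_num) B := by
  classical
  have hoff : ∀ i j : Fin 4, ¬ (i.val < 2 ↔ j.val < 2) → x.1.1 i j = 0 := by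
    intro i j hij
    have h1 : (x * dInv C).1.1 *ᵥ sv j = (dInv C * x).1.1 *ᵥ sv j := by rw [hc.eq]
    rw [suMat_mulVec_mul, suMat_mulVec_mul, dInv_sv, Matrix.mulVec_smul, dInv_mulVec] at h1
    have h2 : (if j.val < 2 then -1 else 1 : F) * x.1.1 i j = (if i.val < 2 then -1 else 1 : F) * x.1.1 i j := by
      simpa only [Pi.smul_apply, smul_eq_mul, sv, Matrix.mulVec_single_one, Matrix.col_apply] using congrFun h1 i
    refine (mul_eq_zero.1 (show (2 : F) * x.1.1 i j = 0 from ?_)).resolve_left (two_ne hF)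
    by_cases hi : i.val < 2 <;> by_cases hj : j.val < 2
    · exact absurd (iff_of_true hi hj) hij
    · rw [if_pos hi, if_neg hj] at h2; linear_combination h2
    · rw [if_neg hi, if_pos hj] at h2; linear_combination -h2
    · exact absurd (iff_of_false hi hj) hij
  let P : Matrix (Fin 2) (Fin 2) F := Matrix.of fun i j => x.1.1 (win 2 0 (by norm_num) i) (win 2 0 (by norm_num) j)
  let R : Matrix (Fin 2) (Fin 2) F := Matrix.of fun i j => x.1.1 (win 2 2 (by norm_num) i) (win 2 2 (by norm_num) j)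
  have hxe : x.1.1 = (1 : Matrix (Fin 4) (Fin 4) F) * x.1.1 := (Matrix.one_mul _).symm
  have hun : x.1.1ᵀ * x.1.1.map C.bar = 1 := (su_mat_iff C x.1).1 x.2
  have mulP : ∀ {M N : Matrix (Fin 4) (Fin 4) F}, (∀ i j : Fin 4, ¬ (i.val < 2 ↔ j.val < 2) → M i j = 0) →
      ∀ {l : ℕ} (hl : l + 2 ≤ 4), (l = 0 ∨ l = 2) → ∀ i j : Fin 2, (M * N) (win 2 l hl i) (win 2 l hl j) =
        ∑ k : Fin 2, M (win 2 l hl i) (win 2 l hl k) * N (win 2 l hl k) (win 2 l hl j) := by
    intro M N hM l hl hll i j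
    rw [Matrix.mul_apply, Fin.sum_univ_four, Fin.sum_univ_two]
    rcases hll with rfl | rfl
    · rw [hM (win 2 0 hl i) 2 (by simp [win]; omega), hM (win 2 0 hl i) 3 (by simp [win]; omega)]
      simp [win]
    · rw [hM (win 2 2 hl i) 0 (by simp [win]; omega), hM (win 2 2 hl i) 1 (by simp [win]; omega)]
      simp [win]
  have mk : ∀ {l : ℕ} (hl : l + 2 ≤ 4), (l = 0 ∨ l = 2) →
      ∃ A : ↥(Cfsg.SU 2 F 3), A ^ 3 = 1 ∧ ∀ i j, A.1.1 i j = x.1.1 (win 2 l hl i) (win 2 l hl j) := by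
    intro l hl hll
    let P : Matrix (Fin 2) (Fin 2) F := Matrix.of fun i j => x.1.1 (win 2 l hl i) (win 2 l hl j)
    have hu : Pᵀ * P.map C.bar = 1 := by
      ext i j
      have := congrFun (congrFun hun (win 2 l hl i)) (win 2 l hl j)
      rw [mulP (fun a b hab => by rw [Matrix.transpose_apply]; exact hoff b a fun h => hab h.symm) hl hll] at this
      rw [Matrix.mul_apply]
      simp only [P, Matrix.transpose_apply, Matrix.map_apply, Matrix.of_apply] at this ⊢
      rw [this, Matrix.one_apply, Matrix.one_apply]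
      exact if_congr win_inj.eq_iff rfl rfl
    have h3 : P * P * P = 1 := by
      ext i j
      have e3 : x.1.1 * (x.1.1 * x.1.1) = 1 := by
        have := congrArg (fun X : ↥(Cfsg.SU 4 F 3) => X.1.1) (show x * (x * x) = 1 by rw [← hx, pow_succ, pow_two, mul_assoc])
        exact this
      have := congrFun (congrFun e3 (win 2 l hl i)) (win 2 l hl j)
      rw [mulP hoff hl hll] at this
      simp only [mulP hoff hl hll] at this
      rw [Matrix.mul_assoc, Matrix.mul_apply]
      simp only [Matrix.mul_apply, P, Matrix.of_apply] at this ⊢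
      rw [this, Matrix.one_apply, Matrix.one_apply]
      exact if_congr win_inj.eq_iff rfl rfl
    have hdet : P.det = 1 := by
      have := congrArg Matrix.det h3
      rw [Matrix.det_mul, Matrix.det_mul, Matrix.det_one] at this
      have h0 : (P.det - 1) * (P.det - 1) * (P.det - 1) = 0 := by
        linear_combination this + (-P.det * P.det + P.det) * three_eq_zero hF
      rcases mul_eq_zero.1 h0 with h | h
      · exact sub_eq_zero.1 ((mul_self_eq_zero).1 h)
      · exact sub_eq_zero.1 h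
    let A : ↥(Cfsg.SU 2 F 3) := ⟨⟨P, hdet⟩, (su_mat_iff C _).2 hu⟩
    refine ⟨A, Subtype.ext (Subtype.ext ?_), fun i j => rfl⟩
    rw [pow_succ, pow_two]
    exact h3
  obtain ⟨A, hA, hAe⟩ := mk (l := 0) (by norm_num) (Or.inl rfl)
  obtain ⟨B, hB, hBe⟩ := mk (l := 2) (by norm_num) (Or.inr rfl)
  refine ⟨A, B, hA, hB, su_ext fun v => ?_⟩
  rw [mulVec_eq_sum, mulVec_eq_sum (A := bk C 0 (by norm_num) A * _)]
  refine Finset.sum_congr rfl fun k _ => congrArg _ ?_
  rw [suMat_mulVec_mul]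
  have hcol : ∀ k i, (x.1.1 *ᵥ sv k) i = x.1.1 i k := fun k i => by simp [sv, Matrix.mulVec_single_one]
  have hAc : ∀ k i, (A.1.1 *ᵥ sv k) i = A.1.1 i k := fun k i => by simp [sv, Matrix.mulVec_single_one]
  have hBc : ∀ k i, (B.1.1 *ᵥ sv k) i = B.1.1 i k := fun k i => by simp [sv, Matrix.mulVec_single_one]
  have z := fun i j h => hoff i j h
  by_cases hk : k.val < 2
  · obtain ⟨kk, rfl⟩ : ∃ kk : Fin 2, k = win 2 0 (by norm_num) kk := ⟨⟨k.val, hk⟩, Fin.ext (by simp [win])⟩
    rw [emb_fix B fun j e => by simp [win, Fin.ext_iff] at e; omega, emb_sv]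
    funext i
    rw [hcol]
    fin_cases i
    · fin_cases kk <;> simp [inc, win, Matrix.mulVec, dotProduct, Fin.sum_univ_two, sv, hAe]
    · fin_cases kk <;> simp [inc, win, Matrix.mulVec, dotProduct, Fin.sum_univ_two, sv, hAe]
    · rw [hoff _ _ (by simp [win]; omega)]; simp [inc, win, Matrix.mulVec, dotProduct, Fin.sum_univ_two, Fin.ext_iff]
    · rw [hoff _ _ (by simp [win]; omega)]; simp [inc, win, Matrix.mulVec, dotProduct, Fin.sum_univ_two, Fin.ext_iff]
  · obtain ⟨kk, rfl⟩ : ∃ kk : Fin 2, k = win 2 2 (by norm_num) kk :=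
      ⟨⟨k.val - 2, by omega⟩, Fin.ext (by simp [win]; omega)⟩
    rw [emb_sv, emb_fix_vec]
    swap
    · intro j
      fin_cases j <;> simp [inc, win, Matrix.mulVec, dotProduct, Fin.sum_univ_two, Fin.ext_iff]
    funext i
    rw [hcol]
    fin_cases i
    · rw [hoff _ _ (by simp [win]; omega)]; simp [inc, win, Matrix.mulVec, dotProduct, Fin.sum_univ_two, Fin.ext_iff]
    · rw [hoff _ _ (by simp [win]; omega)]; simp [inc, win, Matrix.mulVec, dotProduct, Fin.sum_univ_two, Fin.ext_iff]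
    · fin_cases kk <;> simp [inc, win, Matrix.mulVec, dotProduct, Fin.sum_univ_two, sv, hBe]
    · fin_cases kk <;> simp [inc, win, Matrix.mulVec, dotProduct, Fin.sum_univ_two, sv, hBe]

end CfsgLib.Phan.Three
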