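import Cfsg.Agent.Lib.Phan.Three.Frame

/-!
# Lifting elements of order three
-/

set_option autoImplicit false
set_option linter.all false

namespace CfsgLib.Phan.Three

open Matrix CfsgLib.SU CfsgLib.Phan CfsgLib.Lie.BoundedPres.SUBase
open CfsgLib.Lie.BoundedPres.SUGraph

universe u

variable {F : Type u} [Field F] [Fintype F] {C : UCtx F 3} {G : Type*} [Group G]
  {g : ↥(Cfsg.SU 4 F 3) →* G} (hg : g.ker ≤ Subgroup.center _)

include C hg in
theorem ker_pow_four {z : ↥(Cfsg.SU 4 F 3)} (hz : g z = 1) : z ^ 4 = 1 := by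
  obtain ⟨c, hc⟩ := scalar_of_central (C := C) (by norm_num) (hg hz)
  have hd : c ^ 4 = 1 := by
    have := z.1.2
    rw [hc, Matrix.det_smul, Matrix.det_one, mul_one, Fintype.card_fin] at this
    exact this
  refine Subtype.ext (Subtype.ext ?_)
  show ((z ^ 4 : ↥(Cfsg.SU 4 F 3))).1.1 = 1
  rw [SubmonoidClass.coe_pow, Matrix.SpecialLinearGroup.coe_pow, hc, smul_pow, one_pow, hd, one_smul]

include C hg in
theorem exists_three {y : G} (hy : y ∈ g.range) (h3 : y ^ 3 = 1) : ∃ x, x ^ 3 = 1 ∧ g x = y := by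
  obtain ⟨x, rfl⟩ := hy
  have hk : g (x ^ 3) = 1 := by rw [map_pow, h3]
  refine ⟨x * x ^ 3, ?_, by rw [map_mul, hk, mul_one]⟩
  have h4 := ker_pow_four (C := C) hg hk
  rw [← pow_succ', ← pow_mul]
  rw [← pow_mul] at h4
  exact h4

include C hg in
theorem eq_one_of_three {z : ↥(Cfsg.SU 4 F 3)} (hz : g z = 1) (h3 : z ^ 3 = 1) : z = 1 := by
  have h4 := ker_pow_four (C := C) hg hz
  rwa [pow_succ, h3, one_mul] at h4

include C hg in
theorem three_unique {x x' : ↥(Cfsg.SU 4 F 3)} (hx : x ^ 3 = 1) (hx' : x' ^ 3 = 1) (h : g x = g x') : x = x' := by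
  have hk : g (x⁻¹ * x') = 1 := by rw [map_mul, map_inv, h, inv_mul_cancel]
  have hc : Commute x⁻¹ x' := Commute.inv_left (by
    have := Subgroup.mem_center_iff.1 (hg hk) x
    show x * x' = x' * x
    calc x * x' = x * (x * (x⁻¹ * x')) := by group
      _ = x * ((x⁻¹ * x') * x) := by rw [this]
      _ = x' * x := by group)
  refine inv_mul_eq_one.1 (eq_one_of_three (C := C) hg hk ?_)
  rw [hc.mul_pow, inv_pow, hx, hx', inv_one, one_mul]

include C hg in
theorem commute_lift {x y : ↥(Cfsg.SU 4 F 3)} (hx : x ^ 3 = 1) (h : Commute (g x) (g y)) : Commute x y := by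
  have e : g (y * x * y⁻¹) = g x := by rw [map_mul, map_mul, map_inv, ← h.eq, mul_inv_cancel_right]
  have h3 : (y * x * y⁻¹) ^ 3 = 1 := by rw [conj_pow, hx, mul_one, mul_inv_cancel]
  have := three_unique (C := C) hg h3 hx e
  show x * y = y * x
  rw [← eq_mul_inv_iff_mul_eq.1 this.symm]

include C hg in
/-- an element normalising the image of a group of type `SU₂` normalises it -/
theorem conj_mem (hF : Fintype.card F = 3 ^ 2) {f : ↥(Cfsg.SU 2 F 3) →* ↥(Cfsg.SU 4 F 3)}
    (hi : Function.Injective (g.comp f)) {Y : ↥(Cfsg.SU 4 F 3)}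
    (hn : ∀ A, g Y * g (f A) * (g Y)⁻¹ ∈ (g.comp f).range) (A : ↥(Cfsg.SU 2 F 3)) :
    Y * f A * Y⁻¹ ∈ f.range := by
  have key : Subgroup.closure {x : ↥(Cfsg.SU 2 F 3) | x ^ 3 = 1} ≤
      f.range.comap ((MulAut.conj Y).toMonoidHom.comp f) := by
    refine (Subgroup.closure_le _).2 fun x hx => ?_
    obtain ⟨x', hx'⟩ := hn x
    have h3 : x' ^ 3 = 1 := hi (by
      rw [map_pow, hx', conj_pow, ← map_pow g, ← map_pow f, show x ^ 3 = 1 from hx, map_one, map_one, mul_one,
        mul_inv_cancel, map_one])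
    refine ⟨x', three_unique (C := C) hg (by rw [← map_pow, h3, map_one]) ?_ ?_⟩
    · show (Y * f x * Y⁻¹) ^ 3 = 1
      rw [conj_pow, ← map_pow, show x ^ 3 = 1 from hx, map_one, mul_one, mul_inv_cancel]
    · show g (f x') = g (Y * f x * Y⁻¹)
      rw [map_mul, map_mul, map_inv]; exact hx'
  exact key ((closure_three (C := C) hF).ge (Subgroup.mem_top A))

include C hg in
theorem inj_bk {i : ℕ} (h : i + 2 ≤ 4) : Function.Injective (g.comp (bk C i h)) := by
  refine (injective_iff_map_eq_one _).2 fun A hA => (injective_iff_map_eq_one (bk C i h)).1 emb_injective A ?_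
  obtain ⟨c, hc⟩ := scalar_of_central (C := C) (by norm_num) (hg (show g (bk C i h A) = 1 from hA))
  obtain ⟨l, hl⟩ : ∃ l : Fin 4, ∀ j, win (n := 4) 2 i h j ≠ l := by
    by_cases hi : i = 0
    · exact ⟨⟨3, by norm_num⟩, fun j e => by have := congrArg Fin.val e; simp only [win] at this; omega⟩
    · exact ⟨⟨0, by norm_num⟩, fun j e => by have := congrArg Fin.val e; simp only [win] at this; omega⟩
  have h1 := emb_fix (C := C) (hf := win_inj) A hl
  rw [hc, Matrix.smul_mulVec, Matrix.one_mulVec] at h1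
  have h2 := congrFun h1 l
  simp [sv] at h2
  exact Subtype.ext (Subtype.ext (by rw [hc, h2, one_smul]; rfl))

include C in
/-- injective images of `SU₂` are equal as soon as one has the elements of order three of the other -/
theorem range_eq_of (hF : Fintype.card F = 3 ^ 2) {f₁ f₂ : ↥(Cfsg.SU 2 F 3) →* G} (h1 : Function.Injective f₁)
    (h2 : Function.Injective f₂) (h : ∀ A, A ^ 3 = 1 → f₁ A ∈ f₂.range) : f₁.range = f₂.range := by
  have hle : f₁.range ≤ f₂.range := by
    rw [MonoidHom.range_eq_map, ← closure_three (C := C) hF, Subgroup.map_le_iff_le_comap]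
    exact (Subgroup.closure_le _).2 fun A hA => h A hA
  haveI : Finite ↥f₂.range := (MonoidHom.ofInjective h2).toEquiv.finite_iff.1 inferInstance
  refine Subgroup.eq_of_le_of_card_ge hle (le_of_eq ?_)
  rw [← Nat.card_congr (MonoidHom.ofInjective h1).toEquiv, ← Nat.card_congr (MonoidHom.ofInjective h2).toEquiv]

theorem exists_transfer {f₁ f₂ : ↥(Cfsg.SU 2 F 3) →* G} (h1 : Function.Injective f₁) (h2 : Function.Injective f₂)
    (h : f₁.range = f₂.range) : ∃ β : MulAut ↥(Cfsg.SU 2 F 3), ∀ A, f₂ (β A) = f₁ A := by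
  refine ⟨(MonoidHom.ofInjective h1).trans ((MulEquiv.subgroupCongr h).trans (MonoidHom.ofInjective h2).symm),
    fun A => ?_⟩
  have := (MonoidHom.ofInjective h2).apply_symm_apply (MulEquiv.subgroupCongr h (MonoidHom.ofInjective h1 A))
  exact congrArg Subtype.val this

/-- the only involution -/
theorem invol_unique (hF : Fintype.card F = 3 ^ 2) {x : ↥(Cfsg.SU 2 F 3)} (hx : x * x = 1) (h1 : x ≠ 1) :
    x = negTwo C := by
  obtain ⟨p, r, h, rfl⟩ := su2_eq (C := C) x
  have e00 := congrFun (congrFun (congrArg (fun X : ↥(Cfsg.SU 2 F 3) => X.1.1) hx) 0) 0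
  have e10 := congrFun (congrFun (congrArg (fun X : ↥(Cfsg.SU 2 F 3) => X.1.1) hx) 1) 0
  simp only [show (su2 C p r h * su2 C p r h : ↥(Cfsg.SU 2 F 3)).1.1 = (su2 C p r h).1.1 * (su2 C p r h).1.1 from rfl]
    at e00 e10
  simp [su2, UCtx.mkSU, Matrix.mul_apply, Fin.sum_univ_two] at e00 e10
  have hsum : p * (p + C.bar p) = 2 := by linear_combination e00 + h
  have hr : r = 0 := by
    have : r * (p + C.bar p) = 0 := by linear_combination e10
    exact (mul_eq_zero.1 this).resolve_right fun z => two_ne hF (by rw [← hsum, z, mul_zero])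
  subst hr
  have hpp : p * p = 1 := by simpa using e00
  rcases mul_self_eq_one_iff.1 hpp with rfl | rfl
  · exact absurd (Subtype.ext (Subtype.ext (by
      ext i j; fin_cases i <;> fin_cases j <;> simp [su2, UCtx.mkSU]))) h1
  · rfl

theorem negTwo_ne (hF : Fintype.card F = 3 ^ 2) : negTwo C ≠ 1 := fun e => by
  have := congrFun (congrFun (congrArg (fun X : ↥(Cfsg.SU 2 F 3) => X.1.1) e) 0) 0
  simp [negTwo, su2, UCtx.mkSU] at this
  exact one_ne_neg hF this.symm

theorem negTwo_sq : negTwo C * negTwo C = 1 := Subtype.ext (Subtype.ext (by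
  show (negTwo C).1.1 * (negTwo C).1.1 = 1
  ext i j
  fin_cases i <;> fin_cases j <;> simp [negTwo, su2, UCtx.mkSU, Matrix.mul_apply, Fin.sum_univ_two]))

theorem negTwo_central (x : ↥(Cfsg.SU 2 F 3)) : Commute (negTwo C) x := Subtype.ext (Subtype.ext (by
  show (negTwo C).1.1 * x.1.1 = x.1.1 * (negTwo C).1.1
  ext i j
  fin_cases i <;> fin_cases j <;> simp [negTwo, su2, UCtx.mkSU, Matrix.mul_apply, Fin.sum_univ_two, mul_comm]))

theorem sq_negTwo {x : ↥(Cfsg.SU 2 F 3)} (h : x.1.1 * x.1.1 = -1) : x * x = negTwo C :=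
  Subtype.ext (Subtype.ext (h.trans (by
    ext i j
    fin_cases i <;> fin_cases j <;> simp [negTwo, su2, UCtx.mkSU])))

theorem mat_sq_negTwo {x : ↥(Cfsg.SU 2 F 3)} (h : x * x = negTwo C) : x.1.1 * x.1.1 = -1 :=
  (congrArg (fun X : ↥(Cfsg.SU 2 F 3) => X.1.1) h).trans (by
    ext i j
    fin_cases i <;> fin_cases j <;> simp [negTwo, su2, UCtx.mkSU])

theorem aut_negTwo (hF : Fintype.card F = 3 ^ 2) (β : MulAut ↥(Cfsg.SU 2 F 3)) : β (negTwo C) = negTwo C :=
  invol_unique hF (by rw [← map_mul, negTwo_sq, map_one]) fun e => negTwo_ne hF (β.injective (e.trans (map_one β).symm))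

/-- a commutator lift of a quaternion pair is an involution -/
theorem sq_one_of_comm {K : Type*} [Group K] {T W z : K} (hz : T * W = z * (W * T))
    (h1 : z⁻¹ * (T * T) ∈ Subgroup.center K) (h2 : z⁻¹ * (W * W) ∈ Subgroup.center K) : z * z = 1 := by
  obtain ⟨k, hk, hk'⟩ : ∃ k ∈ Subgroup.center K, T * T = z * k := ⟨_, h1, by group⟩
  obtain ⟨m, hm, hm'⟩ : ∃ m ∈ Subgroup.center K, W * W = z * m := ⟨_, h2, by group⟩
  rw [Subgroup.mem_center_iff] at hk hm
  have cT : T * z = z * T := by
    refine mul_right_cancel (b := k) ?_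
    calc T * z * k = T * (T * T) := by rw [hk', mul_assoc]
      _ = T * T * T := by group
      _ = z * (k * T) := by rw [hk', mul_assoc]
      _ = z * T * k := by rw [← hk T, mul_assoc]
  have cW : W * z = z * W := by
    refine mul_right_cancel (b := m) ?_
    calc W * z * m = W * (W * W) := by rw [hm', mul_assoc]
      _ = W * W * W := by group
      _ = z * (m * W) := by rw [hm', mul_assoc]
      _ = z * W * m := by rw [← hm W, mul_assoc]
  have e : T * (W * W) = z * z * (W * W) * T := by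
    calc T * (W * W) = T * W * W := by group
      _ = z * (W * T) * W := by rw [hz]
      _ = z * W * (T * W) := by group
      _ = z * W * (z * (W * T)) := by rw [hz]
      _ = z * (W * z) * W * T := by group
      _ = z * z * (W * W) * T := by rw [cW]; group
  rw [hm'] at e
  have e' : T * (z * m) = z * m * T := by rw [← mul_assoc, cT, mul_assoc, hm T, ← mul_assoc]
  rw [e'] at e
  have := mul_right_cancel e
  rw [← mul_assoc, mul_assoc z z z] at this
  have h3 := mul_right_cancel this
  exact mul_left_cancel (a := z) (by rw [mul_one]; exact h3.symm)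

end CfsgLib.Phan.Three
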