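import Cfsg.Agent.Lib.Phan.Three.Adjust
import Cfsg.Agent.Lib.Phan.Weak
import Cfsg.Agent.Lib.Classical.PSUSimple
import Cfsg.Agent.Lib.Classical.WeilSU.Final

/-!
# Weak Phan systems over the field with nine elements
-/

set_option autoImplicit false
set_option linter.all false

namespace CfsgLib.Phan.Three

open Matrix CfsgLib.SU CfsgLib.Phan CfsgLib.Lie.BoundedPres.SUBase
open CfsgLib.Lie.BoundedPres.SUGraph
open scoped commutatorElement

universe u

variable {F : Type u} [Field F] [Fintype F] {C : UCtx F 3} {G : Type*} [Group G]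

/-- kernels of nontrivial homomorphisms are central -/
theorem ker_central (hF : Fintype.card F = 3 ^ 2) {n : ℕ} (hn : 3 ≤ n) {f : ↥(Cfsg.SU n F 3) →* G} (hf : f ≠ 1) :
    f.ker ≤ Subgroup.center _ := by
  have h : ¬ (n = 3 ∧ (3 : ℕ) = 2) := by omega
  haveI := CfsgLib.Classical.psu_isSimple hF hn h
  set π := QuotientGroup.mk' (Subgroup.center ↥(Cfsg.SU n F 3))
  haveI : (f.ker.map π).Normal := Subgroup.Normal.map inferInstance π (QuotientGroup.mk'_surjective _)
  rcases Subgroup.Normal.eq_bot_or_eq_top (H := f.ker.map π) inferInstance with e | e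
  · intro x hx
    have h1 : π x ∈ f.ker.map π := Subgroup.mem_map_of_mem π hx
    rw [e, Subgroup.mem_bot] at h1
    exact (QuotientGroup.eq_one_iff x).1 h1
  · exfalso
    apply hf
    have hc : commutator ↥(Cfsg.SU n F 3) ≤ f.ker := by
      rw [commutator_def, Subgroup.commutator_le]
      intro x _ y _
      have hx : π x ∈ f.ker.map π := e ▸ Subgroup.mem_top _
      obtain ⟨k, hk, hkx⟩ := hx
      have hz : k⁻¹ * x ∈ Subgroup.center _ := QuotientGroup.eq.1 hkx
      show f ⁅x, y⁆ = 1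
      have e1 : x = k * (k⁻¹ * x) := by group
      generalize k⁻¹ * x = z at hz e1
      subst e1
      have hcz := Subgroup.mem_center_iff.1 hz y
      rw [commutatorElement_def, show k * z * y * (k * z)⁻¹ * y⁻¹ = k * (z * y * z⁻¹) * k⁻¹ * y⁻¹ by group, ← hcz,
        mul_inv_cancel_right, map_mul, map_mul, map_mul, map_inv, map_inv, show f k = 1 from hk]
      group
    rw [CfsgLib.Classical.WeilSU.su_perfect hF hn h] at hc
    exact MonoidHom.ext fun x => hc (Subgroup.mem_top x)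

theorem exists_data (hF : Fintype.card F = 3 ^ 2) {φ₀ φ₁ : ↥(Cfsg.SU 3 F 3) →* G} {g : ↥(Cfsg.SU 4 F 3) →* G}
    (hg : g ≠ 1) {A B D : Subgroup G} (P : Piece C φ₀ A B) (P' : Piece C φ₁ B D)
    (hglue : ∀ X, φ₀ (e1 C X) = φ₁ (e0 C X)) (hc : ∀ X Y, Commute (φ₀ (e0 C X)) (φ₁ (e1 C Y)))
    (hr₀ : φ₀.range ≤ g.range) (hr₁ : φ₁.range ≤ g.range) : Data C g φ₀ φ₁ where
  ker := ker_central hF (by norm_num) hg
  glue := hglue
  i0 := P.inj_left
  i1 := P.inj_right
  i2 := P'.inj_right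
  comm := hc
  r0 := hr₀
  r1 := hr₁
  n01 h := not_commute P fun a ha b hb => by
    obtain ⟨_, ⟨X, rfl⟩, rfl⟩ := (P.left ▸ ha : a ∈ (e0 C).range.map φ₀)
    obtain ⟨_, ⟨Y, rfl⟩, rfl⟩ := (P.right ▸ hb : b ∈ (e1 C).range.map φ₀)
    exact h X Y
  n12 h := not_commute P' fun a ha b hb => by
    obtain ⟨_, ⟨X, rfl⟩, rfl⟩ := (P'.left ▸ ha : a ∈ (e0 C).range.map φ₁)
    obtain ⟨_, ⟨Y, rfl⟩, rfl⟩ := (P'.right ▸ hb : b ∈ (e1 C).range.map φ₁)
    exact h X Y
  zc h := by
    set X := e0 C (negTwo C) with hX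
    set Y := e1 C (wTwo C) with hY
    have hk : (Y * X)⁻¹ * (X * Y) ∈ φ₀.ker := by
      rw [MonoidHom.mem_ker, map_mul, map_inv, map_mul, map_mul, h.eq, inv_mul_cancel]
    obtain ⟨s, hs⟩ := scalar_of_central (C := C) le_rfl (P.ker_le hk)
    have hXY : X * Y = (Y * X) * ((Y * X)⁻¹ * (X * Y)) := by group
    generalize (Y * X)⁻¹ * (X * Y) = Z at hs hXY
    have key : ∀ v : Fin 3 → F, X.1.1 *ᵥ (Y.1.1 *ᵥ v) = s • (Y.1.1 *ᵥ (X.1.1 *ᵥ v)) := fun v => by
      have h2 := congrArg (fun Z : ↥(Cfsg.SU 3 F 3) => Z.1.1 *ᵥ v) hXY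
      simp only [suMat_mulVec_mul] at h2
      rwa [hs, Matrix.smul_mulVec, Matrix.one_mulVec, Matrix.mulVec_smul, Matrix.mulVec_smul] at h2
    have k0 := congrFun (key (sv 0)) 0
    have k2 := congrFun (key (sv 2)) 1
    simp [hX, hY, negTwo, wTwo, emb_val, enlarge, inc, win, su2, UCtx.mkSU, sv, Matrix.mulVec, dotProduct,
      Fin.sum_univ_three, Fin.sum_univ_two, Matrix.mul_apply, Matrix.one_apply] at k0 k2
    exact two_ne hF (by first
      | linear_combination k0 + k2 | linear_combination k0 - k2 | linear_combination -k0 + k2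
      | linear_combination -k0 - k2)

theorem closure_bk (hF : Fintype.card F = 3 ^ 2) {P : Subgroup ↥(Cfsg.SU 4 F 3)}
    (h0 : ∀ X, embW C 4 3 0 (by norm_num) X ∈ P) (h1 : ∀ X, embW C 4 3 1 (by norm_num) X ∈ P) : P = ⊤ := by
  rw [eq_top_iff, ← fixFrom_top (n := 4) (F := F) (q := 3)]
  refine fixFrom_le_of_pairs C (exists_fixed (C := C) hF) P 4 (by norm_num) le_rfl fun a b hab ha hb X hX => ?_
  have hX' : ∀ l : Fin 4, l ≠ a → l ≠ b → X.1.1 *ᵥ sv l = sv l := hX
  have inl : ∀ Y : ↥(Cfsg.SU 4 F 3), Y.1.1 *ᵥ sv 3 = sv 3 → Y ∈ P := fun Y hY => by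
    obtain ⟨Z, rfl⟩ := (embW_range (C := C) (n := 4) (m := 3) (i := 0) (h := by norm_num)).2
      fun l hl => (show l = 3 from Fin.ext (by simp; omega)) ▸ hY
    exact h0 Z
  by_cases h3 : (3 : Fin 4) = a ∨ (3 : Fin 4) = b
  swap
  · push Not at h3
    exact inl X (hX' 3 h3.1 h3.2)
  by_cases h00 : (0 : Fin 4) = a ∨ (0 : Fin 4) = b
  swap
  · push Not at h00
    obtain ⟨Z, rfl⟩ := (embW_range (C := C) (n := 4) (m := 3) (i := 1) (h := by norm_num)).2
      fun l hl => (show l = 0 from Fin.ext (by simp; omega)) ▸ hX' 0 h00.1 h00.2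
    exact h1 Z
  have hfix2 : X.1.1 *ᵥ sv 2 = sv 2 := hX' 2
    (by rcases h3 with rfl | rfl <;> rcases h00 with h | h <;> first | decide | exact absurd h (by decide) | (subst h; decide))
    (by rcases h3 with rfl | rfl <;> rcases h00 with h | h <;> first | decide | exact absurd h (by decide) | (subst h; decide))
  set R := bk C 2 (by norm_num) (wTwo C) with hR
  have hRP : R ∈ P := by
    rw [hR, ← show embW C 4 3 1 (by norm_num) (e1 C (wTwo C)) = bk C 2 (by norm_num) (wTwo C) from embW_comp _]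
    exact h1 _
  have hR3 : R.1.1 *ᵥ sv 3 = -(sv 2 : Fin 4 → F) := by
    rw [hR, show (3 : Fin 4) = win (n := 4) 2 2 (by norm_num) 1 from rfl, emb_sv, wTwo, su2_col1]
    simp [Matrix.mulVec_neg, inc_mulVec_sv, win]
  have := inl (R⁻¹ * X * R) (by
    rw [suMat_mulVec_mul, suMat_mulVec_mul, hR3, Matrix.mulVec_neg, hfix2, ← hR3, su_inv_mulVec])
  have h4 := mul_mem (mul_mem hRP this) (inv_mem hRP)
  rwa [show R * (R⁻¹ * X * R) * R⁻¹ = X by group] at h4

variable {N : ℕ}

/-- the four dimensional windows of a system -/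
def HasQuads (S : Sys C N G) : Prop :=
  ∀ j, j + 4 ≤ N → ∃ θ : ↥(Cfsg.SU 4 F 3) →* ↥(Cfsg.SU N F 3) × G,
    (∀ (i : ℕ) (hi : i + 2 ≤ 4) (hN : j + i + 2 ≤ N) A, θ (bk C i hi A) = bl S (j + i) hN A) ∧
      ∀ (h : j + 4 ≤ N) X, (θ X).1 = embW C N 4 j h X

theorem bl_congr (S : Sys C N G) {i j : ℕ} (e : i = j) (h : i + 2 ≤ N) (A : ↥(Cfsg.SU 2 F 3)) :
    bl S i h A = bl S j (e ▸ h) A := by subst e; rfl

theorem good_four (hF : Fintype.card F = 3 ^ 2) (S : Sys C N G) (hQ : HasQuads S) (hN : 4 ≤ N) : Good S 4 := by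
  obtain ⟨θ, hθ, hθ1⟩ := hQ 0 (by omega)
  have hle : gam S 4 ≤ θ.range := iSup_le fun i => iSup_le fun hi => iSup_le fun hN' => by
    rintro _ ⟨A, rfl⟩
    exact ⟨bk C i hi A, (hθ i hi (by omega) A).trans (bl_congr S (Nat.zero_add i) _ A)⟩
  have hge : ∀ X, θ X ∈ gam S 4 := by
    have hb : ∀ (i : ℕ) (hi : i + 2 ≤ 4) A, θ (bk C i hi A) ∈ gam S 4 := fun i hi A => by
      rw [hθ i hi (by omega), bl_congr S (Nat.zero_add i)]
      exact bl_mem S hi _ A
    have h3 : ∀ (j : ℕ) (hj : j + 3 ≤ 4) X, θ (embW C 4 3 j hj X) ∈ gam S 4 := fun j hj X => by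
      have hcl : (e0 C).range ⊔ (e1 C).range ≤ ((gam S 4).comap θ).comap (embW C 4 3 j hj) := sup_le
        (fun x ⟨A, hA⟩ => hA ▸ by
          refine Subgroup.mem_comap.2 (Subgroup.mem_comap.2 ?_)
          rw [embW_comp]; exact hb _ _ A)
        (fun x ⟨A, hA⟩ => hA ▸ by
          refine Subgroup.mem_comap.2 (Subgroup.mem_comap.2 ?_)
          rw [embW_comp]; exact hb _ _ A)
      exact hcl ((closure_blocks (C := C) (exists_fixed (C := C) hF)).ge (Subgroup.mem_top X))
    exact fun X => (closure_bk (C := C) hF (P := (gam S 4).comap θ) (h3 0 _) (h3 1 _)).ge (Subgroup.mem_top X)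
  have hfst : ∀ X, (θ X).1 = embW C N 4 0 (by omega) X := fun X => hθ1 _ X
  refine ⟨fun x hx y hy e => ?_, le_antisymm ?_ ?_⟩
  · obtain ⟨X, rfl⟩ := hle hx
    obtain ⟨Y, rfl⟩ := hle hy
    replace e : (θ X).1 = (θ Y).1 := e
    rw [hfst, hfst] at e
    rw [emb_injective e]
  · rintro _ ⟨x, hx, rfl⟩
    obtain ⟨X, rfl⟩ := hle hx
    show (θ X).1 ∈ fixFrom 4
    rw [hfst, ← embW_zero_range (C := C) (n := N) (m := 4) (i := 0) (h := by omega)]
    exact ⟨X, rfl⟩
  · intro Z hZ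
    rw [← embW_zero_range (C := C) (n := N) (m := 4) (i := 0) (h := by omega)] at hZ
    obtain ⟨X, rfl⟩ := hZ
    exact ⟨θ X, hge X, hfst X⟩

/-- one more coordinate -/
theorem next_good (hF : Fintype.card F = 3 ^ 2) (S : Sys C N G) (hQ : HasQuads S) {m : ℕ}
    (hN : m + 5 ≤ N) (g4 : Good S (m + 4)) (g3 : Good S (m + 3)) : Good S (m + 5) := by
  classical
  have hq := exists_fixed (C := C) hF
  obtain ⟨θ, hθ, hθ1⟩ := hQ (m + 1) (by omega)
  set σ : Equiv.Perm (Fin 3) := finRotate 3 with hσ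
  have hσs : Equiv.Perm.sign σ = 1 := by rw [hσ, sign_finRotate]; simp
  set P := pm C σ hσs with hP
  have hPsv : ∀ k, P.1.1 *ᵥ (sv k : Fin 3 → F) = sv (σ.symm k) := fun k => by
    rw [hP, pm_mulVec]
    funext i
    simp [sv, Pi.single_apply, Equiv.eq_symm_apply]
  set r := pair S (m + 2) (by omega) P with hr
  have he10 : ∀ A, e1 C A = P⁻¹ * e0 C A * P := fun A => by
    have h1 := pm_emb (C := C) (hf := win_inj) (f := win (n := 3) 2 1 (by norm_num)) σ hσs A
    rw [← hP] at h1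
    rw [show e0 C A = emb C (σ.symm ∘ win (n := 3) 2 1 (by norm_num)) (σ.symm.injective.comp win_inj) A from
      emb_congr (funext fun j => by fin_cases j <;> decide) A, mul_assoc, ← h1, inv_mul_cancel_left]
  -- the generators
  have hgen : gam S (m + 5) = Subgroup.closure ((gam S (m + 4) : Set _) ∪ {r}) := by
    refine le_antisymm (iSup_le fun i => iSup_le fun hi => iSup_le fun hN' => ?_) ((Subgroup.closure_le _).2 ?_)
    · rintro _ ⟨A, rfl⟩
      by_cases hlt : i + 2 ≤ m + 4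
      · exact Subgroup.subset_closure (Or.inl (bl_mem S hlt hN' A))
      obtain rfl : i = m + 3 := by omega
      rw [bl_congr S (show m + 3 = m + 2 + 1 by omega), ← pair_e1 S (m + 2) (by omega), he10, map_mul, map_mul, map_inv,
        pair_e0]
      exact mul_mem (mul_mem (inv_mem (Subgroup.subset_closure (Or.inr rfl)))
        (Subgroup.subset_closure (Or.inl (bl_mem S (by omega) _ A)))) (Subgroup.subset_closure (Or.inr rfl))
    · rintro x (hx | rfl)
      · exact gam_mono S (by omega) hx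
      · exact pair_mem S hq (by omega) _ P
  -- three generators in the window
  have hwin : ∀ (j : ℕ) (hj : j + 3 ≤ 4) (hjN : m + 1 + j + 3 ≤ N) X,
      θ (embW C 4 3 j hj X) = pair S (m + 1 + j) hjN X := by
    intro j hj hjN X
    have hle : (e0 C).range ⊔ (e1 C).range ≤ (θ.comp (embW C 4 3 j hj)).eqLocus (pair S (m + 1 + j) hjN) := sup_le
      (fun x ⟨A, hA⟩ => hA ▸ by
        show θ (embW C 4 3 j hj (e0 C A)) = pair S _ hjN (e0 C A)
        rw [embW_comp, hθ _ _ (by omega), pair_e0]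
        exact bl_congr S (by omega) _ A)
      (fun x ⟨A, hA⟩ => hA ▸ by
        show θ (embW C 4 3 j hj (e1 C A)) = pair S _ hjN (e1 C A)
        rw [embW_comp, hθ _ _ (by omega), pair_e1]
        exact bl_congr S (by omega) _ A)
    exact hle ((closure_blocks (C := C) hq).ge (Subgroup.mem_top X))
  set R := embW C 4 3 1 (by norm_num) P with hR
  have hrθ : θ R = r := by
    rw [hR, hwin 1 _ (by omega), hr]
  have hp1 : ∀ (j : ℕ) (h : j + 3 ≤ N) X, (pair S j h X).1 = embW C N 3 j h X := fun j h X => rfl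
  have hrsv : ∀ k : Fin 3, r.1.1.1 *ᵥ sv (win (n := N) 3 (m + 2) (by omega) k) =
      sv (win (n := N) 3 (m + 2) (by omega) (σ.symm k)) := fun k => by
    rw [hr, hp1, emb_sv, hPsv, inc_mulVec_sv]
  have hstep := step C (n := N) (k := m + 4) (by omega) (by omega) (MonoidHom.fst ↥(Cfsg.SU N F 3) G)
    (gam S (m + 4)) r (Or.inl hq) g4.1 g4.2 (fun l hl => ?_) ?_ ?_ ?_ ?_ ?_
  · refine ⟨fun x hx y hy e => hstep.1 (hgen ▸ hx) (hgen ▸ hy) e, ?_⟩
    rw [hgen]; exact hstep.2
  · exact emb_fix (C := C) (hf := win_inj) _ fun j e => by have := congrArg Fin.val e; simp only [win] at this; omega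
  · have h := hrsv 2
    rw [show σ.symm (2 : Fin 3) = 1 from by decide] at h
    have e2 : win (n := N) 3 (m + 2) (by omega) 2 = ⟨m + 4, by omega⟩ := rfl
    have e1 : win (n := N) 3 (m + 2) (by omega) 1 = ⟨m + 4 - 1, by omega⟩ := rfl
    rw [e2, e1] at h
    exact h
  · have h := hrsv 1
    rw [show σ.symm (1 : Fin 3) = 0 from by decide] at h
    have e1 : win (n := N) 3 (m + 2) (by omega) 1 = ⟨m + 4 - 1, by omega⟩ := rfl
    have e0 : win (n := N) 3 (m + 2) (by omega) 0 = ⟨m + 4 - 2, by omega⟩ := rfl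
    rw [e1, e0] at h
    exact h
  · rw [hr, ← map_mul, ← map_mul, show P * P * P = 1 from ?_, map_one]
    refine su_ext fun v => ?_
    rw [mulVec_eq_sum, mulVec_eq_sum (A := (1 : ↥(Cfsg.SU 3 F 3)))]
    refine Finset.sum_congr rfl fun k _ => congrArg _ ?_
    rw [suMat_mulVec_mul, suMat_mulVec_mul, hPsv, hPsv, hPsv, su_one_mulVec]
    congr 1
    revert k; decide
  · -- inversion
    let W : Matrix (Fin 3) (Fin 3) F := !![-1, 0, 0; 0, 0, 1; 0, 1, 0]
    have hWd : W.det = 1 := by simp [W, Matrix.det_fin_three]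
    let T : ↥(Cfsg.SU 3 F 3) := C.mkSU W hWd fun u v => by
      simp [W, UCtx.form, Fin.sum_univ_three, Matrix.mulVec, dotProduct]
      ring
    refine ⟨pair S (m + 1) (by omega) T, pair_mem S hq (by omega) _ T, ?_⟩
    have hT : pair S (m + 1) (by omega) T = θ (embW C 4 3 0 (by norm_num) T) := (hwin 0 _ (by omega) T).symm
    rw [hT, ← hrθ, ← map_inv θ, ← map_mul, ← map_mul, ← map_inv θ R]
    congr 1
    rw [mul_inv_eq_iff_eq_mul]
    refine su_ext fun v => ?_
    rw [mulVec_eq_sum, mulVec_eq_sum (A := R⁻¹ * embW C 4 3 0 _ T)]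
    refine Finset.sum_congr rfl fun k _ => congrArg _ ?_
    have hRsv : ∀ k : Fin 4, R.1.1 *ᵥ sv k = sv ((![0, 3, 1, 2] : Fin 4 → Fin 4) k) := by
      intro k
      by_cases hk : k = 0
      · subst hk
        exact emb_fix _ fun j e => by have := congrArg Fin.val e; simp [win] at this
      · obtain ⟨j, rfl⟩ : ∃ j, win (n := 4) 3 1 (by norm_num) j = k :=
          ⟨⟨k.val - 1, by omega⟩, Fin.ext (by simp [win]; omega)⟩
        rw [hR, emb_sv, hPsv, inc_mulVec_sv]
        congr 1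
        revert j; decide
    have hperm : ∀ k : Fin 4, (![0, 3, 1, 2] : Fin 4 → Fin 4) ((![0, 2, 3, 1] : Fin 4 → Fin 4) k) = k := by decide
    have hRi : ∀ k : Fin 4, (R⁻¹).1.1 *ᵥ sv k = sv ((![0, 2, 3, 1] : Fin 4 → Fin 4) k) := fun k => by
      have := su_inv_mulVec R (sv ((![0, 2, 3, 1] : Fin 4 → Fin 4) k))
      rw [hRsv] at this
      rw [hperm k] at this
      exact this
    have hT : ∀ k : Fin 4, (embW C 4 3 0 (by norm_num) T).1.1 *ᵥ sv k =
        (![-1, 1, 1, 1] : Fin 4 → F) k • sv ((![0, 2, 1, 3] : Fin 4 → Fin 4) k) := by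
      intro k
      funext i
      fin_cases k <;> fin_cases i <;>
        simp [T, W, UCtx.mkSU, emb_val, enlarge, inc, win, sv, Matrix.mul_apply, Fin.sum_univ_three,
          Matrix.one_apply]
    rw [suMat_mulVec_mul, suMat_mulVec_mul, hRsv, hT, hT, Matrix.mulVec_smul, hRi]
    fin_cases k <;> simp
  · -- local condition
    intro h hh hfix
    have h3 : h.1 ∈ (gam S (m + 3)).map (MonoidHom.fst ↥(Cfsg.SU N F 3) G) := by
      rw [g3.2]; exact hfix
    obtain ⟨y, hy, hye⟩ := h3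
    obtain rfl : y = h := g4.1 (gam_mono S (by omega) hy) hh hye
    have hle : gam S (m + 3) ≤ (gam S (m + 4)).comap (MulAut.conj r⁻¹).toMonoidHom := by
      refine iSup_le fun i => iSup_le fun hi => iSup_le fun hN' => ?_
      rintro _ ⟨A, rfl⟩
      refine Subgroup.mem_comap.2 ?_
      rw [MulEquiv.coe_toMonoidHom, MulAut.conj_apply, inv_inv]
      by_cases hlt : i + 2 ≤ m + 2
      · have hc : Commute r (bl S i hN' A) := by
          have hle2 : (e0 C).range ⊔ (e1 C).range ≤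
              (Subgroup.centralizer {bl S i hN' A}).comap (pair S (m + 2) (by omega)) := sup_le
            (fun x ⟨B, hB⟩ => hB ▸ Subgroup.mem_comap.2 (Subgroup.mem_centralizer_singleton_iff.2 (by
              rw [pair_e0]; exact (bl_commute S (by omega) hN' _ A B).eq.symm)))
            (fun x ⟨B, hB⟩ => hB ▸ Subgroup.mem_comap.2 (Subgroup.mem_centralizer_singleton_iff.2 (by
              rw [pair_e1]; exact (bl_commute S (by omega) hN' _ A B).eq.symm)))
          exact Subgroup.mem_centralizer_singleton_iff.1 (hle2 ((closure_blocks (C := C) hq).ge (Subgroup.mem_top P)))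
        rw [mul_assoc, ← hc.eq, inv_mul_cancel_left]
        exact bl_mem S (by omega) _ A
      obtain rfl : i = m + 1 := by omega
      have hb : bl S (m + 1) hN' A = θ (bk C 0 (by norm_num) A) := (hθ 0 _ (by omega) A).symm
      rw [hb, ← hrθ, ← map_inv, ← map_mul, ← map_mul]
      obtain ⟨Z, hZ⟩ : R⁻¹ * bk C 0 (by norm_num) A * R ∈ (embW C 4 3 0 (show 0 + 3 ≤ 4 by norm_num)).range := by
        refine embW_range.2 fun l hl => ?_
        obtain rfl : l = 3 := Fin.ext (by simp; omega)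
        have h3 : R.1.1 *ᵥ sv 3 = (sv 2 : Fin 4 → F) := by
          rw [hR, show (3 : Fin 4) = win (n := 4) 3 1 (by norm_num) 2 from rfl, emb_sv, hPsv, inc_mulVec_sv]
          rfl
        rw [suMat_mulVec_mul, suMat_mulVec_mul, h3, emb_fix A (fun j e => by
          have := congrArg Fin.val e; simp only [win] at this; omega), ← h3, su_inv_mulVec]
      rw [← hZ, hwin 0 _ (by omega)]
      exact pair_mem S hq (by omega) _ Z
    have := hle hy
    simpa using this

/-- the image of the unitary group -/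
theorem surjects (hF : Fintype.card F = 3 ^ 2) (S : Sys C N G) (hQ : HasQuads S) (hN : 4 ≤ N)
    (hgen : ⨆ (j : ℕ) (_ : j + 2 ≤ N), (S.ψ j).range = ⊤) :
    ∃ f : ↥(Cfsg.SU N F 3) →* G, Function.Surjective f := by
  have key : ∀ k, k + 4 ≤ N → Good S (k + 3) ∧ Good S (k + 4) := by
    intro k
    induction k with
    | zero => exact fun h => ⟨(good_base S (exists_fixed (C := C) hF) (by omega)).2, good_four hF S hQ hN⟩
    | succ k ih => exact fun h => ⟨(ih (by omega)).2, next_good hF S hQ (by omega) (ih (by omega)).2 (ih (by omega)).1⟩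
  obtain ⟨hi, hm⟩ : Good S N := by
    have := (key (N - 4) (by omega)).2
    rwa [show N - 4 + 4 = N by omega] at this
  rw [fixFrom_top] at hm
  have hb : Function.Bijective ((MonoidHom.fst ↥(Cfsg.SU N F 3) G).comp (gam S N).subtype) :=
    ⟨fun x y e => Subtype.ext (hi x.2 y.2 e), fun X => by
      obtain ⟨x, hx, e⟩ := (hm.ge (Subgroup.mem_top X) : X ∈ (gam S N).map _)
      exact ⟨⟨x, hx⟩, e⟩⟩
  let e := MulEquiv.ofBijective _ hb
  refine ⟨((MonoidHom.snd _ G).comp (gam S N).subtype).comp e.symm.toMonoidHom, fun g => ?_⟩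
  have : g ∈ (gam S N).map (MonoidHom.snd _ G) := by
    refine (iSup₂_le fun j hj => ?_ : ⨆ (j : ℕ) (_ : j + 2 ≤ N), (S.ψ j).range ≤ _) (hgen.ge (Subgroup.mem_top g))
    rintro _ ⟨A, rfl⟩
    exact ⟨_, bl_mem S hj hj A, rfl⟩
  obtain ⟨x, hx, rfl⟩ := this
  exact ⟨e ⟨x, hx⟩, by simp⟩

/-- weak Phan systems over the field with nine elements -/
theorem weak_phan (hF : Fintype.card F = 3 ^ 2) {n : ℕ} (hn : 4 ≤ n)
    (U : Fin n → Subgroup G) (V : Fin n → Fin n → Subgroup G)
    (h1 : ∀ i j : Fin n, (i : ℕ) + 2 ≤ j → ∀ x ∈ U i, ∀ y ∈ U j, x * y = y * x)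
    (h2 : ∀ i j : Fin n, (i : ℕ) + 1 = j → Cfsg.IsStandardUnitaryPair (V i j) (U i) (U j) F 3)
    (hgen : (⨆ i, U i) ⊔ (⨆ (i : Fin n) (j : Fin n) (_ : (i : ℕ) + 1 = j), V i j) = ⊤)
    (h4 : ∀ i j k : Fin n, (i : ℕ) + 1 = j → (j : ℕ) + 1 = k →
      ∃ g : ↥(Cfsg.SU 4 F 3) →* ↥(V i j ⊔ V j k), Function.Surjective g) :
    ∃ f : ↥(Cfsg.SU (n + 1) F 3) →* G, Function.Surjective f := by
  classical
  obtain ⟨C⟩ := CfsgLib.Classical.uctx_exists hF
  have hq := exists_fixed (C := C) hF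
  have hV : ∀ i j : Fin n, (i : ℕ) + 1 = j → V i j = U i ⊔ U j := fun i j h => by
    obtain ⟨φ, P, hr⟩ := exists_piece C (h2 i j h)
    rw [← hr, MonoidHom.range_eq_map, ← closure_blocks (C := C) hq, Subgroup.map_sup, P.left, P.right]
  let U' : ℕ → Subgroup G := fun j => if h : j < n then U ⟨j, h⟩ else ⊥
  have hU' : ∀ j (h : j < n), U' j = U ⟨j, h⟩ := fun j h => dif_pos h
  have hP' : ∀ i : ℕ, ∃ φ : ↥(Cfsg.SU 3 F 3) →* G, i + 3 ≤ n + 1 → Piece C φ (U' i) (U' (i + 1)) := fun i => by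
    by_cases h : i + 3 ≤ n + 1
    · obtain ⟨φ, hφ, -⟩ := exists_piece C (h2 ⟨i, by omega⟩ ⟨i + 1, by omega⟩ rfl)
      exact ⟨φ, fun _ => by rw [hU' i (by omega), hU' (i + 1) (by omega)]; exact hφ⟩
    · exact ⟨1, fun h' => absurd h' h⟩
  choose φ hφ using hP'
  obtain ⟨S, hS⟩ := exists_sys_of_extend (C := C) hq (fun β hβ => by
      obtain ⟨c, σ, hc, hcs⟩ := diag_aut (C := C) hF β hβ
      exact exists_extend_of_diag C β hc hcs) (N := n + 1) (by omega) U' φ hφ fun i j hij hj => by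
    rw [hU' i (by omega), hU' j (by omega)]
    exact h1 _ _ hij
  have hSU : ∀ j (h : j < n), (S.ψ j).range = U ⟨j, h⟩ := fun j h => (hS j (by omega)).trans (hU' j h)
  have hr : ∀ i (h : i + 1 < n), (S.φ i).range = V ⟨i, by omega⟩ ⟨i + 1, h⟩ := fun i h => by
    rw [hV _ _ rfl, ← hSU i (by omega), ← hSU (i + 1) h, MonoidHom.range_eq_map, ← closure_blocks (C := C) hq,
      Subgroup.map_sup]
    congr 1
    · rw [← MonoidHom.range_comp]; congr 1; exact MonoidHom.ext fun A => S.left i (by omega) A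
    · rw [← MonoidHom.range_comp]; congr 1; exact MonoidHom.ext fun A => S.right i (by omega) A
  have hpiece : ∀ i (h : i + 1 < n), Piece C (S.φ i) ((S.ψ i).range) ((S.ψ (i + 1)).range) := fun i h => by
    refine ⟨ker_central hF le_rfl fun e => ?_, ?_, ?_⟩
    · have h0 : U ⟨i, by omega⟩ = ⊥ := by
        rw [← hSU i (by omega), MonoidHom.range_eq_bot_iff]
        exact MonoidHom.ext fun A => by rw [← S.left i (by omega), e]; rfl
      obtain ⟨φ', P', -⟩ := exists_piece C (h2 ⟨i, by omega⟩ ⟨i + 1, h⟩ rfl)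
      have h5 : φ' (e0 C (negTwo C)) ∈ U ⟨i, by omega⟩ := P'.left ▸ Subgroup.mem_map_of_mem φ' ⟨_, rfl⟩
      rw [h0, Subgroup.mem_bot] at h5
      exact negTwo_ne hF ((injective_iff_map_eq_one _).1 P'.inj_left _ h5)
    · rw [← MonoidHom.range_comp]; congr 1; exact MonoidHom.ext fun A => S.left i (by omega) A
    · rw [← MonoidHom.range_comp]; congr 1; exact MonoidHom.ext fun A => S.right i (by omega) A
  have hQ : HasQuads S := by
    intro j hj
    obtain ⟨g, hg⟩ := h4 ⟨j, by omega⟩ ⟨j + 1, by omega⟩ ⟨j + 2, by omega⟩ rfl rfl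
    set g' := (Subgroup.subtype _).comp g with hg'
    have hgr : g'.range = V ⟨j, by omega⟩ ⟨j + 1, by omega⟩ ⊔ V ⟨j + 1, by omega⟩ ⟨j + 2, by omega⟩ := by
      rw [hg', MonoidHom.range_comp, MonoidHom.range_eq_top.2 hg, ← MonoidHom.range_eq_map, Subgroup.range_subtype]
    have hg1 : g' ≠ 1 := fun e => by
      have h0 : (S.φ j).range = ⊥ := le_bot_iff.1 (by
        rw [hr j (by omega), ← (MonoidHom.range_eq_bot_iff (f := g')).2 e, hgr]; exact le_sup_left)
      exact (hpiece j (by omega)).inj_left.ne (negTwo_ne hF) (by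
        rw [map_one]
        show S.φ j (e0 C (negTwo C)) = 1
        rw [MonoidHom.range_eq_bot_iff.1 h0]; rfl)
    have D : Data C g' (S.φ j) (S.φ (j + 1)) := exists_data hF hg1 (hpiece j (by omega)) (hpiece (j + 1) (by omega))
      (fun X => (S.right j (by omega) X).trans (S.left (j + 1) (by omega) X).symm)
      (fun X Y => by rw [S.left j (by omega), S.right (j + 1) (by omega)]; exact S.comm j (j + 2) le_rfl (by omega) X Y)
      (by rw [hr j (by omega), hgr]; exact le_sup_left) (by rw [hr (j + 1) (by omega), hgr]; exact le_sup_right)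
    obtain ⟨θ, t0, t1, t2⟩ := D.triple hF
    refine ⟨(embW C (n + 1) 4 j (by omega)).prod θ, fun i hi hN A => Prod.ext (embW_comp A) ?_, fun _ X => rfl⟩
    obtain rfl | rfl | rfl : i = 0 ∨ i = 1 ∨ i = 2 := by omega
    · exact (t0 A).trans (S.left j (by omega) A)
    · exact (t1 A).trans (S.right j (by omega) A)
    · exact (t2 A).trans (S.right (j + 1) (by omega) A)
  refine surjects hF S hQ (by omega) (eq_top_iff.2 (hgen ▸ sup_le (iSup_le fun i => ?_)
    (iSup_le fun i => iSup_le fun j => iSup_le fun h => ?_)))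
  · exact le_iSup_of_le (i : ℕ) (le_iSup_of_le (by omega) (le_of_eq (hSU i.val i.isLt).symm))
  · rw [hV i j h]
    exact sup_le (le_iSup_of_le (i : ℕ) (le_iSup_of_le (by omega) (le_of_eq (hSU i.val i.isLt).symm)))
      (le_iSup_of_le (j : ℕ) (le_iSup_of_le (by omega) (le_of_eq (hSU j.val j.isLt).symm)))

end CfsgLib.Phan.Three
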