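import Cfsg.Agent.Lib.Phan.Three.Window

/-!
# The middle block
-/

set_option autoImplicit false
set_option linter.all false

namespace CfsgLib.Phan.Three

open Matrix CfsgLib.SU CfsgLib.Phan CfsgLib.Lie.BoundedPres.SUBase
open CfsgLib.Lie.BoundedPres.SUGraph

universe u

variable {F : Type u} [Field F] [Fintype F] {C : UCtx F 3} {G : Type*} [Group G]
  {g : ↥(Cfsg.SU 4 F 3) →* G} {φ₀ φ₁ : ↥(Cfsg.SU 3 F 3) →* G}

theorem inv_coord (v : ↥(Cfsg.SU 4 F 3)) (l k : Fin 4) :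
    ((v⁻¹).1.1 *ᵥ sv l) k = C.bar ((v.1.1 *ᵥ sv k) l) := by
  rw [← form_sv_right (C := C) ((v⁻¹).1.1 *ᵥ sv l) k, ← C.form_su v, su_mulVec_inv, ← C.bar_form, form_sv_right]

/-- a conjugate of a block inside another -/
theorem conj_bk_mem {v : ↥(Cfsg.SU 4 F 3)} {i j : ℕ} {hi : i + 2 ≤ 4} {hj : j + 2 ≤ 4}
    (h : ∀ l : Fin 4, (l.val < j ∨ j + 2 ≤ l.val) → ∀ k, (v.1.1 *ᵥ sv (win (n := 4) 2 i hi k)) l = 0)
    (A : ↥(Cfsg.SU 2 F 3)) : v * bk C i hi A * v⁻¹ ∈ (bk C j hj).range := by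
  refine embW_range.2 fun l hl => ?_
  rw [suMat_mulVec_mul, suMat_mulVec_mul, emb_fix_vec A (fun k => by rw [inv_coord (C := C), h l hl k, map_zero]),
    su_mulVec_inv]

/-- vectors moved by an element normalising a block -/
theorem norm_coord (hF : Fintype.card F = 3 ^ 2) {i : ℕ} {hi : i + 2 ≤ 4} {Y : ↥(Cfsg.SU 4 F 3)}
    (h : ∀ A, Y⁻¹ * bk C i hi A * Y ∈ (bk C i hi).range) {l : Fin 4} (hl : l.val < i ∨ i + 2 ≤ l.val) :
    (Y.1.1 *ᵥ sv l) (win (n := 4) 2 i hi 0) = 0 ∧ (Y.1.1 *ᵥ sv l) (win (n := 4) 2 i hi 1) = 0 := by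
  refine coord_of_fix (C := C) (hf := win_inj) hF ?_
  have h1 := embW_range.1 (h (wTwo C)) l hl
  rw [suMat_mulVec_mul, suMat_mulVec_mul] at h1
  have h2 := congrArg (fun x => Y.1.1 *ᵥ x) h1
  simpa only [su_mulVec_inv] using h2

/-- diagonalisation of an element of order four -/
theorem exists_eigen (hF : Fintype.card F = 3 ^ 2) {l : F} (hl : l * l = -1) (hlb : C.bar l = -l)
    (hlu : l * C.bar l + 0 * C.bar 0 = 1) {A : ↥(Cfsg.SU 2 F 3)} (hA : A.1.1 * A.1.1 = -1) :
    ∃ N, A * N = N * su2 C l 0 hlu := by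
  rcases shape (C := C) hF hA with ⟨p, hp, hpb, rfl⟩ | ⟨r, hr, rfl⟩
  · have hp' : p * C.bar p = 1 := by simpa using hp
    rcases unit_cases (C := C) hF hl hp' with e | e | e | e
    · subst e; rw [map_one] at hpb; exact absurd hpb (one_ne_neg hF)
    · subst e; rw [map_neg, map_one, neg_neg] at hpb; exact absurd hpb.symm (one_ne_neg hF)
    · subst e; exact ⟨1, by rw [mul_one, one_mul]⟩
    · refine ⟨wTwo C, Subtype.ext (Subtype.ext ?_)⟩
      show (su2 C p 0 hp).1.1 * (wTwo C).1.1 = (wTwo C).1.1 * (su2 C l 0 hlu).1.1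
      ext i j
      fin_cases i <;> fin_cases j <;> simp [wTwo, su2, UCtx.mkSU, Matrix.mul_apply, Fin.sum_univ_two, e, hlb]
  · have hr' : r * C.bar r = 1 := by simpa using hr
    obtain ⟨k, hk⟩ := C.exists_norm (c := (-1 : F)) (by simp)
    have hN : (k * l) * C.bar (k * l) + (k * r) * C.bar (k * r) = 1 := by
      rw [map_mul, map_mul, hlb]
      linear_combination (2 : F) * hk + k * C.bar k * hr' - k * C.bar k * hl - three_eq_zero hF
    refine ⟨su2 C (k * l) (k * r) hN, Subtype.ext (Subtype.ext ?_)⟩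
    show (su2 C 0 r hr).1.1 * (su2 C (k * l) (k * r) hN).1.1 = (su2 C (k * l) (k * r) hN).1.1 * (su2 C l 0 hlu).1.1
    ext i j
    fin_cases i <;> fin_cases j <;> simp [su2, UCtx.mkSU, Matrix.mul_apply, Fin.sum_univ_two, hlb] <;>
      first
      | linear_combination (-k) * hr' - k * hl
      | linear_combination (-C.bar k) * hr' - C.bar k * hl
      | linear_combination (0 : F)

theorem bk_zero_diag {l : F} (hlb : C.bar l = -l) (hlu : l * C.bar l + 0 * C.bar 0 = 1) (v : Fin 4 → F) :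
    (bk C 0 (by norm_num) (su2 C l 0 hlu)).1.1 *ᵥ v = fun i => ![l, -l, 1, 1] i * v i := by
  funext i
  fin_cases i <;>
    simp [emb_val, enlarge, inc, win, su2, UCtx.mkSU, Matrix.mulVec, dotProduct, Fin.sum_univ_four,
      Matrix.mul_apply, Fin.sum_univ_two, hlb, Matrix.one_apply]

/-- the three blocks -/
theorem Data.middle (hF : Fintype.card F = 3 ^ 2) (D : Data C g φ₀ φ₁)
    (e₀ : (g.comp (bk C 0 (by norm_num))).range = (φ₀.comp (e0 C)).range)
    (e₂ : (g.comp (bk C 2 (by norm_num))).range = (φ₁.comp (e1 C)).range) :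
    ∃ α : MulAut ↥(Cfsg.SU 4 F 3),
      ((g.comp α.toMonoidHom).comp (bk C 0 (by norm_num))).range = (φ₀.comp (e0 C)).range ∧
      ((g.comp α.toMonoidHom).comp (bk C 1 (by norm_num))).range = (φ₀.comp (e1 C)).range ∧
      ((g.comp α.toMonoidHom).comp (bk C 2 (by norm_num))).range = (φ₁.comp (e1 C)).range := by
  classical
  obtain ⟨l, hl, hlb⟩ := exists_root (C := C) hF
  have hlu : l * C.bar l + 0 * C.bar 0 = 1 := by rw [hlb]; linear_combination -hl
  set t := su2 C l 0 hlu with ht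
  set a := φ₀.comp (e0 C) with ha
  set b := φ₀.comp (e1 C) with hb
  set c := φ₁.comp (e1 C) with hc
  have ha' : ∀ A, g (bk C 0 (by norm_num) A) ∈ a.range := fun A => e₀ ▸ ⟨A, rfl⟩
  have hc' : ∀ A, g (bk C 2 (by norm_num) A) ∈ c.range := fun A => e₂ ▸ ⟨A, rfl⟩
  obtain ⟨P, hP⟩ := exists_shift (C := C)
  obtain ⟨H, hH⟩ := D.r0 ⟨P, rfl⟩
  have hba : ∀ A, b A = g H * a A * (g H)⁻¹ := fun A => by
    show φ₀ (e1 C A) = g H * φ₀ (e0 C A) * (g H)⁻¹
    rw [hH, hP, map_mul, map_mul, map_inv]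
  obtain ⟨β, hβ⟩ := exists_transfer D.i0 (inj_bk (C := C) D.ker _) e₀.symm
  have htt : t * t = negTwo C := sq_negTwo (su2_sq hlb)
  obtain ⟨N, hN⟩ := exists_eigen hF hl hlb hlu
    (mat_sq_negTwo (show β t * β t = negTwo C by rw [← map_mul, htt, aut_negTwo hF]))
  set X := H * bk C 0 (by norm_num) (β t) * H⁻¹ with hX
  have hgX : g X = b t := by
    rw [hba, hX, map_mul, map_mul, map_inv]
    exact congrArg (fun y => g H * y * (g H)⁻¹) (hβ t)
  have hnorm : ∀ s ∈ dTor, ∀ A, b s * a A * (b s)⁻¹ ∈ a.range := fun s hs A => by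
    obtain ⟨A', hA'⟩ := norm_left (C := C) hs (e0 C A) ⟨A, rfl⟩
    refine ⟨A', ?_⟩
    show φ₀ (e0 C A') = φ₀ (e1 C s) * φ₀ (e0 C A) * (φ₀ (e1 C s))⁻¹
    rw [hA', map_mul, map_mul, map_inv]
  have htT : t ∈ dTor := ⟨by simp [t, su2, UCtx.mkSU], by simp [t, su2, UCtx.mkSU]⟩
  have hXn : ∀ Y : ↥(Cfsg.SU 4 F 3), (g Y = b t ∨ g Y = b t⁻¹) →
      ∀ A, Y * bk C 0 (by norm_num) A * Y⁻¹ ∈ (bk C 0 (by norm_num)).range := by
    intro Y hY A
    refine conj_mem (C := C) D.ker hF (inj_bk (C := C) D.ker _) (fun B => ?_) A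
    rw [e₀]
    obtain ⟨B', hB'⟩ := ha' B
    rw [← hB']
    rcases hY with e | e <;> rw [e]
    · exact hnorm t htT B'
    · exact hnorm _ (inv_mem htT) B'
  have hXc : Commute X (dInv C) := by
    refine su_ext fun v => ?_
    rw [mulVec_eq_sum, mulVec_eq_sum (A := dInv C * X)]
    refine Finset.sum_congr rfl fun k _ => congrArg _ ?_
    rw [suMat_mulVec_mul X (dInv C), suMat_mulVec_mul (dInv C) X, dInv_sv, Matrix.mulVec_smul, dInv_mulVec]
    have z : ∀ Z : ↥(Cfsg.SU 4 F 3), (g Z = b t ∨ g Z = b t⁻¹) → ∀ l : Fin 4, ¬ l.val < 2 →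
        ∀ i : Fin 4, i.val < 2 → (Z.1.1 *ᵥ sv l) i = 0 := by
      intro Z hZ l hl i hi
      have h1 := norm_coord (C := C) hF (hi := show 0 + 2 ≤ 4 by norm_num) (Y := Z) (fun A => by
        have := hXn Z⁻¹ (by
          rcases hZ with e | e
          · exact Or.inr (by rw [map_inv, map_inv, e])
          · exact Or.inl (by rw [map_inv, e, map_inv, inv_inv])) A
        rwa [inv_inv] at this) (l := l) (Or.inr (by omega))
      obtain rfl | rfl : i = 0 ∨ i = 1 := by fin_cases i <;> simp at hi ⊢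
      exacts [h1.1, h1.2]
    funext i
    simp only [Pi.smul_apply, smul_eq_mul]
    by_cases hk : k.val < 2 <;> by_cases hi : i.val < 2
    · rw [if_pos hk, if_pos hi]
    · have h0 : (X.1.1 *ᵥ sv k) i = 0 := by
        have h1 := inv_coord (C := C) X i k
        rw [z X⁻¹ (Or.inr (by rw [map_inv, map_inv, hgX])) i hi k hk] at h1
        exact (map_eq_zero C.bar).1 h1.symm
      rw [h0, mul_zero, mul_zero]
    · rw [z X (Or.inl hgX) k hk i hi, mul_zero, mul_zero]
    · rw [if_neg hk, if_neg hi]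
  set v₀ := H * bk C 0 (by norm_num) N with hv₀
  have hXv : X * v₀ = v₀ * bk C 0 (by norm_num) t := by
    rw [hX, hv₀, show H * bk C 0 (by norm_num) (β t) * H⁻¹ * (H * bk C 0 (by norm_num) N) = H * (bk C 0 (by norm_num) (β t) * bk C 0 (by norm_num) N) by group,
      ← map_mul, hN, map_mul, mul_assoc]
  have hl0 : l ≠ 0 := fun e => by rw [e] at hl; simp at hl
  have hl1 : l ≠ 1 := fun e => by rw [e, map_one] at hlb; exact one_ne_neg hF hlb
  have hl2 : -l ≠ 1 := fun e => by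
    have : l = -1 := neg_eq_iff_eq_neg.1 e
    rw [this, map_neg, map_one, neg_neg] at hlb
    exact one_ne_neg hF hlb.symm
  have hll : l ≠ -l := fun e => mul_ne_zero (two_ne hF) hl0 (by linear_combination e)
  -- the two eigenlines lie in the planes
  have hside : ∀ k : Fin 4, k.val < 2 →
      (∀ i : Fin 4, 2 ≤ i.val → (v₀.1.1 *ᵥ sv k) i = 0) ∨ (∀ i : Fin 4, i.val < 2 → (v₀.1.1 *ᵥ sv k) i = 0) := by
    intro k hk
    set E := v₀⁻¹ * dInv C * v₀ with hE
    have hEc : E * bk C 0 (by norm_num) t = bk C 0 (by norm_num) t * E := by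
      have hX' : bk C 0 (by norm_num) t = v₀⁻¹ * X * v₀ := by
        rw [mul_assoc, hXv, inv_mul_cancel_left]
      rw [hX', hE, show v₀⁻¹ * dInv C * v₀ * (v₀⁻¹ * X * v₀) = v₀⁻¹ * (dInv C * X) * v₀ by group, ← hXc.eq]
      group
    set y := E.1.1 *ᵥ sv k with hy
    have h1 := congrArg (fun Z : ↥(Cfsg.SU 4 F 3) => Z.1.1 *ᵥ (sv k : Fin 4 → F)) hEc
    simp only [suMat_mulVec_mul, bk_zero_diag hlb hlu, ← hy, ht] at h1
    have e1 : (fun i => (![l, -l, 1, 1] : Fin 4 → F) i * (sv k : Fin 4 → F) i) =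
        (![l, -l, 1, 1] : Fin 4 → F) k • (sv k : Fin 4 → F) := by
      funext i
      by_cases h : i = k
      · subst h; simp
      · simp [sv, h]
    rw [e1, Matrix.mulVec_smul, ← hy] at h1
    have hy1 : ∀ i, i ≠ k → y i = 0 := fun i hi => by
      have h2 := congrFun h1 i
      simp only [Pi.smul_apply, smul_eq_mul] at h2
      by_contra hne
      have := mul_right_cancel₀ hne h2
      fin_cases k <;> simp at hk <;> fin_cases i <;> simp at hi <;> simp at this
      exacts [hll this, hl1 this, hl1 this, hll this.symm, hl2 this, hl2 this]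
    set d := y k with hd
    have hyd : y = d • (sv k : Fin 4 → F) := funext fun i => by
      by_cases h : i = k
      · subst h; simp [sv, hd]
      · simp [sv, h, hy1 i h]
    have hf : (dInv C).1.1 *ᵥ (v₀.1.1 *ᵥ sv k) = d • (v₀.1.1 *ᵥ sv k) := by
      rw [← Matrix.mulVec_smul, ← hyd, hy, hE, suMat_mulVec_mul (v₀⁻¹ * dInv C) v₀, suMat_mulVec_mul v₀⁻¹ (dInv C),
        su_mulVec_inv v₀]
    rw [dInv_mulVec] at hf
    by_cases hd1 : d = -1
    · left
      intro i hi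
      have h2 := congrFun hf i
      simp only [Pi.smul_apply, smul_eq_mul, hd1, if_neg (show ¬ i.val < 2 by omega)] at h2
      exact (mul_eq_zero.1 (show (2 : F) * (v₀.1.1 *ᵥ sv k) i = 0 by linear_combination h2)).resolve_left
        (two_ne hF)
    · right
      intro i hi
      have h2 := congrFun hf i
      simp only [Pi.smul_apply, smul_eq_mul, if_pos hi] at h2
      exact (mul_eq_zero.1 (show (d + 1) * (v₀.1.1 *ᵥ sv k) i = 0 by linear_combination -h2)).resolve_left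
        fun e => hd1 (eq_neg_of_add_eq_zero_left e)
  have hbv : ∀ A, ∃ A', g (v₀ * bk C 0 (by norm_num) A * v₀⁻¹) = b A' := fun A => by
    obtain ⟨A', hA'⟩ := ha' (N * A * N⁻¹)
    refine ⟨A', ?_⟩
    rw [hba, hA', hv₀]
    simp only [map_mul, map_inv, _root_.mul_inv_rev, mul_assoc]
  -- arrange the order
  obtain ⟨v, hv, hvl, hvr⟩ : ∃ v : ↥(Cfsg.SU 4 F 3), (∀ A, ∃ A', g (v * bk C 0 (by norm_num) A * v⁻¹) = b A') ∧
      (∀ i : Fin 4, 2 ≤ i.val → (v.1.1 *ᵥ sv 0) i = 0) ∧ (∀ i : Fin 4, i.val < 2 → (v.1.1 *ᵥ sv 1) i = 0) := by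
    have hw0 : ∀ u : ↥(Cfsg.SU 4 F 3), (u * bk C 0 (by norm_num) (wTwo C)).1.1 *ᵥ sv 0 = u.1.1 *ᵥ sv 1 := fun u => by
      rw [suMat_mulVec_mul, show (0 : Fin 4) = win (n := 4) 2 0 (by norm_num) 0 from rfl, emb_sv, wTwo, su2_col0]
      simp [Matrix.mulVec_add, inc_mulVec_sv, win]
    have hw1 : ∀ u : ↥(Cfsg.SU 4 F 3), (u * bk C 0 (by norm_num) (wTwo C)).1.1 *ᵥ sv 1 = -(u.1.1 *ᵥ sv 0) := fun u => by
      rw [suMat_mulVec_mul, show (1 : Fin 4) = win (n := 4) 2 0 (by norm_num) 1 from rfl, emb_sv, wTwo, su2_col1]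
      simp [Matrix.mulVec_add, Matrix.mulVec_neg, inc_mulVec_sv, win]
    have nope : ∀ {j : ℕ} (hj : j + 2 ≤ 4), (∀ A B, Commute (g (bk C j hj A)) (c B)) ∨
        (∀ A B, Commute (g (bk C j hj A)) (a B)) →
        (∀ i : Fin 4, (i.val < j ∨ j + 2 ≤ i.val) → ∀ k, (v₀.1.1 *ᵥ sv (win (n := 4) 2 0 (by norm_num) k)) i = 0) →
        False := by
      intro j hj hcm hcoord
      have hbr : (g.comp ((MulAut.conj v₀).toMonoidHom.comp (bk C 0 (by norm_num)))).range = b.range := by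
        refine range_eq_of (C := C) hF ?_ D.i1 fun A _ => ?_
        · exact inj_bk (C := C) (D.comp (MulAut.conj v₀)).ker (i := 0) _
        · obtain ⟨A', hA'⟩ := hbv A
          exact ⟨A', hA'.symm⟩
      have hb' : ∀ B, ∃ A, b B = g (bk C j hj A) := fun B => by
        obtain ⟨A, hA⟩ := hbr.ge ⟨B, rfl⟩
        obtain ⟨A', hA'⟩ := conj_bk_mem (C := C) (hj := hj) hcoord A
        exact ⟨A', by rw [← hA, hA']; rfl⟩
      rcases hcm with hcm | hcm
      · exact D.n12 fun A B => by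
          obtain ⟨A', hA'⟩ := hb' A
          rw [← D.glue]
          show Commute (b A) (c B)
          rw [hA']; exact hcm A' B
      · exact D.n01 fun A B => by
          obtain ⟨B', hB'⟩ := hb' B
          show Commute (a A) (b B)
          rw [hB']; exact (hcm B' A).symm
    rcases hside 0 (by norm_num) with h0 | h0 <;> rcases hside 1 (by norm_num) with h1 | h1
    · refine (nope (j := 0) (by norm_num) (Or.inl fun A B => ?_) fun i hi k => ?_).elim
      · obtain ⟨A', hA'⟩ := ha' A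
        rw [← hA']; exact D.comm A' B
      · fin_cases k
        · exact h0 i (by omega)
        · exact h1 i (by omega)
    · exact ⟨v₀, hbv, h0, h1⟩
    · refine ⟨v₀ * bk C 0 (by norm_num) (wTwo C), fun A => ?_, fun i hi => ?_, fun i hi => ?_⟩
      · obtain ⟨A', hA'⟩ := hbv (wTwo C * A * (wTwo C)⁻¹)
        exact ⟨A', by rw [← hA']; simp only [map_mul, map_inv, _root_.mul_inv_rev, mul_assoc]⟩
      · rw [hw0]; exact h1 i hi
      · rw [hw1, Pi.neg_apply, h0 i hi, neg_zero]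
    · refine (nope (j := 2) (by norm_num) (Or.inr fun A B => ?_) fun i hi k => ?_).elim
      · obtain ⟨A', hA'⟩ := hc' A
        rw [← hA']; exact (D.comm B A').symm
      · fin_cases k
        · exact h0 i (by omega)
        · exact h1 i (by omega)
  have hn : ∀ k : Fin 4, ∑ i, (v.1.1 *ᵥ sv k) i * C.bar ((v.1.1 *ᵥ sv k) i) = 1 := fun k => by
    have := C.form_su v (sv k) (sv k)
    rw [form_sv, if_pos rfl] at this
    exact this
  have hn0 := hn 0
  have hn1 := hn 1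
  rw [Fin.sum_univ_four, hvl 2 le_rfl, hvl 3 (by norm_num)] at hn0
  rw [Fin.sum_univ_four, hvr 0 (by norm_num), hvr 1 (by norm_num)] at hn1
  simp only [zero_mul, zero_add, add_zero] at hn0 hn1
  set f0 := v.1.1 *ᵥ sv 0 with hf0
  set f1 := v.1.1 *ᵥ sv 1 with hf1
  set B0 := su2 C (C.bar (f0 1)) (-C.bar (f0 0)) (by simp [C.bar_bar]; linear_combination hn0) with hB0
  set B2 := su2 C (f1 2) (f1 3) hn1 with hB2
  set M := bk C 0 (by norm_num) B0 * bk C 2 (by norm_num) B2 with hM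
  have hM1 : M.1.1 *ᵥ sv 1 = f0 := by
    rw [hM, suMat_mulVec_mul, emb_fix B2 (fun j e => by have := congrArg Fin.val e; simp only [win] at this; omega),
      show (1 : Fin 4) = win (n := 4) 2 0 (by norm_num) 1 from rfl, emb_sv, hB0, su2_col1]
    funext i
    fin_cases i <;> simp [inc, win, Matrix.mulVec, dotProduct, Fin.sum_univ_two, sv, C.bar_bar,
      hvl 2 le_rfl, hvl 3 (by norm_num)]
  have hM2 : M.1.1 *ᵥ sv 2 = f1 := by
    rw [hM, suMat_mulVec_mul, show (2 : Fin 4) = win (n := 4) 2 2 (by norm_num) 0 from rfl, emb_sv, hB2, su2_col0,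
      emb_fix_vec]
    · funext i
      fin_cases i <;> simp [inc, win, Matrix.mulVec, dotProduct, Fin.sum_univ_two, sv,
        hvr 0 (by norm_num), hvr 1 (by norm_num)]
    · intro j
      fin_cases j <;> simp [inc, win, Matrix.mulVec, dotProduct, Fin.sum_univ_two]
  have D' := D.comp (MulAut.conj M)
  refine ⟨MulAut.conj M, ?_, ?_, ?_⟩
  · refine range_eq_of (C := C) hF (inj_bk (C := C) D'.ker _) D.i0 fun A _ => ?_
    show g (MulAut.conj M (bk C 0 (by norm_num) A)) ∈ a.range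
    have hcm := (embW_commute (C := C) (n := 4) (h := show 0 + 2 ≤ 4 by norm_num)
      (h' := show 2 + 2 ≤ 4 by norm_num) le_rfl A B2).eq
    rw [MulAut.conj_apply, hM, show bk C 0 (by norm_num) B0 * bk C 2 (by norm_num) B2 * bk C 0 (by norm_num) A * (bk C 0 (by norm_num) B0 * bk C 2 (by norm_num) B2)⁻¹ =
      bk C 0 (by norm_num) B0 * (bk C 2 (by norm_num) B2 * bk C 0 (by norm_num) A) * ((bk C 2 (by norm_num) B2)⁻¹ * (bk C 0 (by norm_num) B0)⁻¹) by group, ← hcm,
      ← mul_assoc, ← mul_assoc, mul_inv_cancel_right, ← map_mul, ← map_inv, ← map_mul]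
    exact ha' _
  · have hb' : ∀ A, g (MulAut.conj v (bk C 0 (by norm_num) A)) ∈ b.range := fun A => by
      obtain ⟨A', hA'⟩ := hv A
      exact ⟨A', hA'.symm⟩
    have e1 : (g.comp ((MulAut.conj v).toMonoidHom.comp (bk C 0 (by norm_num)))).range = b.range :=
      range_eq_of (C := C) hF (inj_bk (C := C) (D.comp (MulAut.conj v)).ker _) D.i1 fun A _ => hb' A
    refine (range_eq_of (C := C) hF D.i1 (inj_bk (C := C) D'.ker _) fun B _ => ?_).symm
    obtain ⟨A, hA⟩ := e1.ge ⟨B, rfl⟩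
    obtain ⟨A', hA'⟩ := conj_bk_mem (C := C) (v := M⁻¹ * v) (i := 0) (j := 1) (hj := by norm_num)
      (hi := by norm_num) (fun i hi k => by
        fin_cases k
        · show ((M⁻¹ * v).1.1 *ᵥ sv 0) i = 0
          rw [suMat_mulVec_mul, ← hf0, ← hM1, su_inv_mulVec]
          have hne : ∀ m : Fin 4, (m.val = 1 ∨ m.val = 2) → i ≠ m := fun m hm e => by subst e; omega
          simp [sv, hne 1 (Or.inl rfl), hne 2 (Or.inr rfl)]
        · show ((M⁻¹ * v).1.1 *ᵥ sv 1) i = 0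
          rw [suMat_mulVec_mul, ← hf1, ← hM2, su_inv_mulVec]
          have hne : ∀ m : Fin 4, (m.val = 1 ∨ m.val = 2) → i ≠ m := fun m hm e => by subst e; omega
          simp [sv, hne 1 (Or.inl rfl), hne 2 (Or.inr rfl)]) A
    refine ⟨A', ?_⟩
    show g (MulAut.conj M (bk C 1 (by norm_num) A')) = b B
    rw [← hA, hA']
    show g (MulAut.conj M _) = g (MulAut.conj v _)
    simp only [MulAut.conj_apply]
    congr 1; group
  · refine range_eq_of (C := C) hF (inj_bk (C := C) D'.ker _) D.i2 fun A _ => ?_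
    show g (MulAut.conj M (bk C 2 (by norm_num) A)) ∈ c.range
    have hcm := (embW_commute (C := C) (n := 4) (h := show 0 + 2 ≤ 4 by norm_num)
      (h' := show 2 + 2 ≤ 4 by norm_num) le_rfl B0 (B2 * A * B2⁻¹)).eq
    rw [MulAut.conj_apply, hM, show bk C 0 (by norm_num) B0 * bk C 2 (by norm_num) B2 * bk C 2 (by norm_num) A * (bk C 0 (by norm_num) B0 * bk C 2 (by norm_num) B2)⁻¹ =
      bk C 0 (by norm_num) B0 * (bk C 2 (by norm_num) B2 * bk C 2 (by norm_num) A * (bk C 2 (by norm_num) B2)⁻¹) * (bk C 0 (by norm_num) B0)⁻¹ by group, ← map_inv, ← map_mul,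
      ← map_mul, hcm, ← map_inv, mul_assoc, map_inv, mul_inv_cancel, mul_one]
    exact hc' _

end CfsgLib.Phan.Three
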