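import Cfsg.Agent.Lib.Phan.Amalgam
import Cfsg.Agent.Lib.Classical.SL2Sylow
import Cfsg.Agent.Lib.Classical.SLBasic

/-!
# The unitary group of dimension two over the field with nine elements
-/

set_option autoImplicit false
set_option linter.all false

namespace CfsgLib.Phan.Three

open Matrix CfsgLib.SU CfsgLib.Phan CfsgLib.Lie.BoundedPres.SUBase
open CfsgLib.Lie.BoundedPres.SUGraph

universe u

variable {F : Type u} [Field F] [Fintype F] {C : UCtx F 3}

theorem three_eq_zero (hF : Fintype.card F = 3 ^ 2) : (3 : F) = 0 := by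
  have h := FiniteField.cast_card_eq_zero F
  rw [hF] at h
  have h' : (3 : F) * 3 = 0 := by push_cast at h; linear_combination h
  exact mul_self_eq_zero.1 h'

theorem two_ne (hF : Fintype.card F = 3 ^ 2) : (2 : F) ≠ 0 := fun h => one_ne_zero (α := F) (by
  linear_combination three_eq_zero hF - h)

theorem one_ne_neg (hF : Fintype.card F = 3 ^ 2) : (1 : F) ≠ -1 := fun h => two_ne hF (by linear_combination h)

/-- the fixed scalars -/
theorem fixed_cases (hF : Fintype.card F = 3 ^ 2) {s : F} (hs : C.bar s = s) : s = 0 ∨ s = 1 ∨ s = -1 := by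
  rw [C.bar_eq] at hs
  have h : s * (s - 1) * (s + 1) = 0 := by linear_combination hs
  rcases mul_eq_zero.1 h with h | h
  · rcases mul_eq_zero.1 h with h | h
    · exact Or.inl h
    · exact Or.inr (Or.inl (sub_eq_zero.1 h))
  · exact Or.inr (Or.inr (eq_neg_of_add_eq_zero_left h))

theorem exists_fixed (hF : Fintype.card F = 3 ^ 2) : ∃ s : F, C.bar s = s ∧ s ≠ 0 ∧ s ≠ 1 :=
  ⟨-1, by simp, neg_ne_zero.2 one_ne_zero, (one_ne_neg hF).symm⟩

/-- a square root of minus one -/
theorem exists_root (hF : Fintype.card F = 3 ^ 2) : ∃ l : F, l * l = -1 ∧ C.bar l = -l := by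
  obtain ⟨l, hl⟩ := (FiniteField.isSquare_neg_one_iff (F := F)).2 (by rw [hF]; norm_num)
  refine ⟨l, hl.symm, ?_⟩
  rw [C.bar_eq, show l ^ 3 = l * l * l by ring, ← hl]; ring

/-- scalars of norm one -/
theorem unit_cases (hF : Fintype.card F = 3 ^ 2) {l : F} (hl : l * l = -1) {r : F} (hr : r * C.bar r = 1) :
    r = 1 ∨ r = -1 ∨ r = l ∨ r = -l := by
  rw [C.bar_eq] at hr
  have h : (r - 1) * (r + 1) * ((r - l) * (r + l)) = 0 := by linear_combination hr - (r * r - 1) * hl
  rcases mul_eq_zero.1 h with h | h <;> rcases mul_eq_zero.1 h with h | h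
  · exact Or.inl (sub_eq_zero.1 h)
  · exact Or.inr (Or.inl (eq_neg_of_add_eq_zero_left h))
  · exact Or.inr (Or.inr (Or.inl (sub_eq_zero.1 h)))
  · exact Or.inr (Or.inr (Or.inr (eq_neg_of_add_eq_zero_left h)))

include C in
theorem card_su_two (hF : Fintype.card F = 3 ^ 2) : Nat.card ↥(Cfsg.SU 2 F 3) = 24 := by
  obtain ⟨K, _, _, hK, ⟨e⟩⟩ := su_two_equiv (C := C) hF
  rw [Nat.card_congr e.toEquiv, CfsgLib.Classical.card_sl2, hK]

include C in
/-- generation by elements of order three -/
theorem closure_three (hF : Fintype.card F = 3 ^ 2) :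
    Subgroup.closure {x : ↥(Cfsg.SU 2 F 3) | x ^ 3 = 1} = ⊤ := by
  obtain ⟨K, _, _, hK, ⟨e⟩⟩ := su_two_equiv (C := C) hF
  classical
  have h3 : (3 : K) = 0 := by
    have h := FiniteField.cast_card_eq_zero K
    rw [hK] at h
    exact_mod_cast h
  have hS := CfsgLib.Classical.sl_eq_top
    ((Subgroup.closure {x : ↥(Cfsg.SU 2 F 3) | x ^ 3 = 1}).comap e.symm.toMonoidHom) fun i j hij c => by
      refine Subgroup.mem_comap.2 (Subgroup.subset_closure ?_)
      show (e.symm _) ^ 3 = 1
      refine (map_pow e.symm _ 3).symm.trans ((congrArg e.symm ?_).trans (map_one e.symm))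
      refine Subtype.ext ?_
      show (Matrix.SpecialLinearGroup.transvection hij c ^ 3 : Matrix.SpecialLinearGroup (Fin 2) K).1 = 1
      rw [show (Matrix.SpecialLinearGroup.transvection hij c ^ 3 : Matrix.SpecialLinearGroup (Fin 2) K).1 =
        Matrix.transvection i j c * Matrix.transvection i j c * Matrix.transvection i j c from by
          rw [Matrix.SpecialLinearGroup.coe_pow, pow_succ, pow_succ, pow_one]; rfl]
      simp only [Matrix.transvection_mul_transvection_same _ _ hij]
      rw [show c + c + c = 3 * c by ring, h3, zero_mul, Matrix.transvection_zero]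
  refine eq_top_iff.2 fun x _ => ?_
  have := Subgroup.mem_comap.1 (hS.ge (Subgroup.mem_top (e x)))
  simpa using this

include C in
/-- elements of order three commuting with a given one commute -/
theorem three_commute (hF : Fintype.card F = 3 ^ 2) {A B D : ↥(Cfsg.SU 2 F 3)} (hA : A ^ 3 = 1) (hA1 : A ≠ 1)
    (hB : B ^ 3 = 1) (hD : D ^ 3 = 1) (hAB : Commute A B) (hAD : Commute A D) : Commute B D := by
  classical
  haveI : Fact (Nat.Prime 3) := ⟨Nat.prime_three⟩
  have key : ∀ B, B ^ 3 = 1 → Commute A B → B ∈ Subgroup.zpowers A := by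
    intro B hB hAB
    set H := Subgroup.closure ({A, B} : Set ↥(Cfsg.SU 2 F 3))
    haveI : IsMulCommutative ↥H := Subgroup.isMulCommutative_closure fun x hx y hy => by
      rcases hx with rfl | rfl <;> rcases hy with rfl | rfl
      exacts [rfl, hAB.eq, hAB.symm.eq, rfl]
    have hp : IsPGroup 3 ↥H := by
      rintro ⟨x, hx⟩
      refine ⟨1, Subtype.ext ?_⟩
      show x ^ 3 ^ 1 = 1
      rw [pow_one]
      induction hx using Subgroup.closure_induction with
      | mem y hy => rcases hy with rfl | rfl <;> assumption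
      | one => exact one_pow _
      | mul y z hy hz h1 h2 =>
        rw [Commute.mul_pow (show Commute y z from congrArg Subtype.val
          ((inferInstance : IsMulCommutative ↥H).is_comm.comm ⟨y, hy⟩ ⟨z, hz⟩)), h1, h2, one_mul]
      | inv y hy h1 => rw [inv_pow, h1, inv_one]
    obtain ⟨k, hk⟩ := IsPGroup.iff_card.1 hp
    have hdvd : 3 ^ k ∣ 24 := card_su_two (C := C) hF ▸ hk ▸ Subgroup.card_subgroup_dvd_card H
    have hle : Subgroup.zpowers A ≤ H :=
      Subgroup.zpowers_le.2 (Subgroup.subset_closure (Or.inl rfl))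
    have heq : Subgroup.zpowers A = H := by
      refine Subgroup.eq_of_le_of_card_ge hle ?_
      rw [Nat.card_zpowers, orderOf_eq_prime hA hA1, hk]
      have : k ≤ 1 := by
        by_contra hk2
        push Not at hk2
        have := Nat.le_of_dvd (by norm_num) hdvd
        have h9 : 3 ^ 2 ∣ 24 := (pow_dvd_pow 3 hk2).trans hdvd
        norm_num at h9
      exact (Nat.pow_le_pow_right (by norm_num) this).trans (le_of_eq (pow_one 3))
    exact heq ▸ Subgroup.subset_closure (Or.inr rfl)
  obtain ⟨a, rfl⟩ := key B hB hAB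
  obtain ⟨b, rfl⟩ := key D hD hAD
  exact Commute.zpow_zpow rfl a b

/-- the shape of the elements with square minus one -/
theorem shape (hF : Fintype.card F = 3 ^ 2) {A : ↥(Cfsg.SU 2 F 3)} (hA : A.1.1 * A.1.1 = -1) :
    (∃ p, ∃ h : p * C.bar p + 0 * C.bar 0 = 1, C.bar p = -p ∧ A = su2 C p 0 h) ∨
      ∃ r, ∃ h : (0 : F) * C.bar 0 + r * C.bar r = 1, A = su2 C 0 r h := by
  obtain ⟨p, r, h, rfl⟩ := su2_eq (C := C) A
  have e00 := congrFun (congrFun hA 0) 0
  have e11 := congrFun (congrFun hA 1) 1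
  simp [su2, UCtx.mkSU, Matrix.mul_apply, Fin.sum_univ_two] at e00 e11
  have hsum : p + C.bar p = 0 := by
    have : (p + C.bar p) * (p + C.bar p) = 0 := by linear_combination e00 + e11 + 2 * h
    exact mul_self_eq_zero.1 this
  have hp : C.bar p = -p := eq_neg_of_add_eq_zero_right hsum
  by_cases hr : r = 0
  · subst hr
    exact Or.inl ⟨p, h, hp, rfl⟩
  · have hp0 : p = 0 := by
      by_contra hp0
      rcases fixed_cases (C := C) hF (C.norm_fixed p) with e | e | e
      · exact hp0 ((mul_eq_zero.1 e).elim id fun z => (map_eq_zero C.bar).1 z)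
      · have : r * C.bar r = 0 := by linear_combination h - e
        exact hr ((mul_eq_zero.1 this).elim id fun z => (map_eq_zero C.bar).1 z)
      · rw [hp] at e
        have : (p - 1) * (p + 1) = 0 := by linear_combination -e
        have hfix : C.bar p = p := by
          rcases mul_eq_zero.1 this with z | z
          · rw [sub_eq_zero.1 z, map_one]
          · rw [eq_neg_of_add_eq_zero_left z, map_neg, map_one]
        exact hp0 ((mul_eq_zero.1 (show (2 : F) * p = 0 by linear_combination hfix.symm.trans hp)).resolve_left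
          (two_ne hF))
    subst hp0
    exact Or.inr ⟨r, h, rfl⟩

/-- diagonal semilinear automorphisms -/
theorem exists_diag {n : ℕ} (d : Fin n → F) (hd : ∀ i, d i * C.bar (d i) = 1) (σ : RingAut F) :
    ∃ α : MulAut ↥(Cfsg.SU n F 3), ∀ Y i j, (α Y).1.1 i j = d i * σ (Y.1.1 i j) * (d j)⁻¹ := by
  classical
  have hd0 : ∀ i, d i ≠ 0 := fun i => left_ne_zero_of_mul_eq_one (hd i)
  let D : GL (Fin n) F := ⟨Matrix.diagonal d, Matrix.diagonal fun i => (d i)⁻¹,
    by rw [Matrix.diagonal_mul_diagonal]; simp [hd0],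
    by rw [Matrix.diagonal_mul_diagonal]; simp [hd0]⟩
  have hD : D ∈ Cfsg.GU n F 3 := C.mem_gu_iff_mat.2 (by
    show (Matrix.diagonal d)ᵀ * (Matrix.diagonal d).map C.bar = 1
    rw [Matrix.diagonal_transpose, Matrix.diagonal_map (map_zero _), Matrix.diagonal_mul_diagonal]
    simp [hd])
  refine ⟨suConj ⟨D, hD⟩ * C.suField σ, fun Y i j => ?_⟩
  show (Matrix.diagonal d * Y.1.1.map σ * Matrix.diagonal fun i => (d i)⁻¹) i j = _
  rw [Matrix.mul_diagonal, Matrix.diagonal_mul, Matrix.map_apply]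

/-- an element of order four -/
theorem su2_sq {p r : F} {h : p * C.bar p + r * C.bar r = 1} (hp : C.bar p = -p) :
    (su2 C p r h).1.1 * (su2 C p r h).1.1 = -1 := by
  ext i j
  fin_cases i <;> fin_cases j <;> simp [su2, UCtx.mkSU, Matrix.mul_apply, Fin.sum_univ_two, hp] <;>
    first | linear_combination (0 : F) | linear_combination h | linear_combination -h |
      linear_combination h - p * hp | linear_combination -h + p * hp

theorem mat_comm {A B : ↥(Cfsg.SU 2 F 3)} (h : Commute A B) : A.1.1 * B.1.1 = B.1.1 * A.1.1 :=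
  congrArg (fun X : ↥(Cfsg.SU 2 F 3) => X.1.1) h.eq

/-- centraliser of the quaternion group -/
theorem centraliser_quat (hF : Fintype.card F = 3 ^ 2) {l : F} (hl : l * l = -1) (hlb : C.bar l = -l)
    (hlu : l * C.bar l + 0 * C.bar 0 = 1) {x : ↥(Cfsg.SU 2 F 3)} (h1 : Commute (su2 C l 0 hlu) x)
    (h2 : Commute (su2 C 0 1 (by simp)) x) : x * x = 1 ∧ ∀ y, Commute y x := by
  obtain ⟨p, r, h, rfl⟩ := su2_eq (C := C) x
  have hl0 : l ≠ 0 := fun e => by rw [e] at hl; simp at hl
  have h2l : (2 : F) * l ≠ 0 := mul_ne_zero (two_ne hF) hl0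
  have a10 := congrFun (congrFun (mat_comm h1) 1) 0
  simp [su2, UCtx.mkSU, Matrix.mul_apply, Fin.sum_univ_two, hlb] at a10
  have hr : r = 0 := (mul_eq_zero.1 (show (2 * l) * r = 0 by linear_combination -a10)).resolve_left h2l
  subst hr
  have b10 := congrFun (congrFun (mat_comm h2) 1) 0
  simp [su2, UCtx.mkSU, Matrix.mul_apply, Fin.sum_univ_two] at b10
  have hbp : C.bar p = p := by first | exact b10 | exact b10.symm
  have hpp : p * p = 1 := by
    have h0 : p * C.bar p = 1 := by simpa using h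
    rwa [hbp] at h0
  refine ⟨?_, fun y => Subtype.ext (Subtype.ext ?_)⟩
  rotate_left
  · show y.1.1 * (su2 C p 0 h).1.1 = (su2 C p 0 h).1.1 * y.1.1
    ext i j
    fin_cases i <;> fin_cases j <;> simp [su2, UCtx.mkSU, Matrix.mul_apply, Fin.sum_univ_two, hbp, mul_comm]
  refine Subtype.ext (Subtype.ext ?_)
  show (su2 C p 0 h).1.1 * (su2 C p 0 h).1.1 = 1
  ext i j
  fin_cases i <;> fin_cases j <;> simp [su2, UCtx.mkSU, Matrix.mul_apply, Fin.sum_univ_two, hbp, hpp]

/-- automorphisms keeping the diagonal subgroup -/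
theorem diag_aut (hF : Fintype.card F = 3 ^ 2) (β : MulAut ↥(Cfsg.SU 2 F 3)) (hβ : ∀ X ∈ dTor, β X ∈ dTor) :
    ∃ (c : F) (σ : RingAut F), c * C.bar c = 1 ∧
      ∀ X, ∀ i j, (β X).1.1 i j = ![1, c] i * σ (X.1.1 i j) * (![1, c] j)⁻¹ := by
  classical
  obtain ⟨l, hl, hlb⟩ := exists_root (C := C) hF
  have hlu : l * C.bar l + 0 * C.bar 0 = 1 := by rw [hlb]; linear_combination -hl
  set t := su2 C l 0 hlu with ht
  set w := su2 C 0 1 (by simp) with hw
  have htt : t.1.1 * t.1.1 = -1 := su2_sq hlb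
  have hww : w.1.1 * w.1.1 = -1 := su2_sq (by simp)
  have hne : t * t ≠ 1 := fun e => by
    have h1 := congrFun (congrFun (htt.symm.trans (congrArg (fun X : ↥(Cfsg.SU 2 F 3) => X.1.1) e)) 0) 0
    simp at h1
    exact one_ne_neg hF h1.symm
  have hneg : ∀ X : ↥(Cfsg.SU 2 F 3), X * X = t * t → X.1.1 * X.1.1 = -1 := fun X e =>
    (congrArg (fun X : ↥(Cfsg.SU 2 F 3) => X.1.1) e).trans htt
  have hwt : w * w = t * t := Subtype.ext (Subtype.ext (hww.trans htt.symm))
  obtain ⟨p, r, hpr, hbt⟩ := su2_eq (C := C) (β t)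
  have htT : t ∈ dTor := ⟨by simp [t, su2, UCtx.mkSU], by simp [t, su2, UCtx.mkSU]⟩
  have hr0 : r = 0 := by
    have := (hβ t htT).2
    rw [hbt] at this
    simpa [su2, UCtx.mkSU] using this
  subst hr0
  have hpp : p * C.bar p = 1 := by simpa using hpr
  have hpl : p = l ∨ p = -l := by
    have hsq : ∀ {e : F}, e * e = 1 → C.bar e = e → p = e → False := fun {e} he heb hpe => hne (β.injective (by
      rw [map_mul, hbt, map_one]
      subst hpe
      refine Subtype.ext (Subtype.ext ?_)
      show (su2 C p 0 hpr).1.1 * (su2 C p 0 hpr).1.1 = 1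
      ext i j
      fin_cases i <;> fin_cases j <;> simp [su2, UCtx.mkSU, Matrix.mul_apply, Fin.sum_univ_two, heb, he]))
    rcases unit_cases (C := C) hF hl hpp with e | e | e | e
    · exact (hsq (by ring) (map_one _) e).elim
    · exact (hsq (by ring) (by simp) e).elim
    · exact Or.inl e
    · exact Or.inr e
  obtain ⟨σ, hσp, hσσ⟩ : ∃ σ : RingAut F, σ l = p ∧ ∀ x, σ (σ x) = x := by
    rcases hpl with e | e
    · exact ⟨1, e.symm, fun x => rfl⟩
    · exact ⟨C.bar, hlb.trans e.symm, C.bar_bar⟩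
  obtain ⟨τ, hτ⟩ := exists_diag (C := C) (n := 2) (fun _ => 1) (fun _ => by simp) σ
  have hτv : ∀ Y i j, (τ Y).1.1 i j = σ (Y.1.1 i j) := fun Y i j => by simp [hτ]
  have hττ : ∀ Y, τ (τ Y) = Y := fun Y => Subtype.ext (Subtype.ext (Matrix.ext fun i j => by
    rw [hτv, hτv, hσσ]))
  set β' := β * τ with hβ'
  have hσc : ∀ x, σ (C.bar x) = C.bar (σ x) := fun x => by
    simp only [C.bar_eq, map_pow]
  have hτt : τ t = β t := by
    rw [hbt]
    refine Subtype.ext (Subtype.ext (Matrix.ext fun i j => ?_))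
    rw [hτv]
    fin_cases i <;> fin_cases j <;> simp [t, su2, UCtx.mkSU, hσp, hσc]
  have hb't : β' t = t := by
    show β (τ t) = t
    rw [hτt]
    have hb : β (β t) = τ (τ t) → β (β t) = t := fun e => e.trans (hττ t)
    rcases hpl with e | e
    · have : β t = t := by rw [hbt]; subst e; rfl
      rw [this, this]
    · have hinv : β t = t⁻¹ := by
        refine eq_inv_of_mul_eq_one_left ?_
        rw [hbt]
        refine Subtype.ext (Subtype.ext ?_)
        show (su2 C p 0 hpr).1.1 * t.1.1 = 1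
        ext i j
        fin_cases i <;> fin_cases j <;> simp [t, su2, UCtx.mkSU, Matrix.mul_apply, Fin.sum_univ_two, e, hlb, hl]
      rw [hinv, map_inv, hinv, inv_inv]
  have hbw : (β' w).1.1 * (β' w).1.1 = -1 := hneg _ (by rw [← map_mul, hwt, map_mul, hb't])
  obtain ⟨c, hcu, hbw'⟩ : ∃ c, ∃ h : (0 : F) * C.bar 0 + c * C.bar c = 1, β' w = su2 C 0 c h := by
    rcases shape hF hbw with ⟨a, ha, hab, e⟩ | h
    swap
    · exact h
    exfalso
    have hc : Commute (β' t) (β' w) := by
      rw [hb't, e]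
      refine Subtype.ext (Subtype.ext ?_)
      show t.1.1 * (su2 C a 0 ha).1.1 = (su2 C a 0 ha).1.1 * t.1.1
      ext i j
      fin_cases i <;> fin_cases j <;> simp [t, su2, UCtx.mkSU, Matrix.mul_apply, Fin.sum_univ_two, mul_comm]
    have hcw : Commute t w := β'.injective ((map_mul β' t w).trans (hc.eq.trans (map_mul β' w t).symm))
    have h1 := congrFun (congrFun (mat_comm hcw) 1) 0
    simp [t, w, su2, UCtx.mkSU, Matrix.mul_apply, Fin.sum_univ_two, hlb] at h1
    have hl0 : l ≠ 0 := fun z => by rw [z] at hl; simp at hl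
    exact hl0 ((mul_eq_zero.1 (show (2 : F) * l = 0 by linear_combination -h1)).resolve_left (two_ne hF))
  have hc : c * C.bar c = 1 := by simpa using hcu
  obtain ⟨α, hα⟩ := exists_diag (C := C) (n := 2) ![1, c] (fun i => by fin_cases i <;> simp [hc]) 1
  have hc0 : c ≠ 0 := left_ne_zero_of_mul_eq_one hc
  have hαt : α t = t := Subtype.ext (Subtype.ext (Matrix.ext fun i j => by
    rw [hα]; fin_cases i <;> fin_cases j <;> simp [t, su2, UCtx.mkSU, hc0] <;> field_simp))
  have hαw : α w = su2 C 0 c hcu := Subtype.ext (Subtype.ext (Matrix.ext fun i j => by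
    rw [hα]; fin_cases i <;> fin_cases j <;> simp [w, su2, UCtx.mkSU, eq_inv_of_mul_eq_one_right hc]))
  set γ := α⁻¹ * β' with hγ
  have hγt : γ t = t := by
    show α.symm (β' t) = t
    rw [hb't, MulEquiv.symm_apply_eq, hαt]
  have hγw : γ w = w := by
    show α.symm (β' w) = w
    rw [hbw', MulEquiv.symm_apply_eq, hαw]
  set L := (γ.toMonoidHom).eqLocus (MonoidHom.id _) with hL
  have hLm : ∀ {X}, X ∈ L ↔ γ X = X := Iff.rfl
  have hL4 : ∀ X : ↥(Cfsg.SU 2 F 3), X.1.1 * X.1.1 = -1 → X ∈ L := by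
    intro X hX
    have mt : t ∈ L := hγt
    have mw : w ∈ L := hγw
    have mi : ∀ {Y : ↥(Cfsg.SU 2 F 3)}, Y ∈ L → Y * X = 1 → X ∈ L := fun {Y} hY e =>
      (eq_inv_of_mul_eq_one_right e) ▸ inv_mem hY
    rcases shape (C := C) hF hX with ⟨a, ha, hab, rfl⟩ | ⟨a, ha, rfl⟩
    · have ha' : a * C.bar a = 1 := by simpa using ha
      rcases unit_cases (C := C) hF hl ha' with e | e | e | e
      · subst e
        rw [map_one] at hab
        exact absurd hab (one_ne_neg hF)
      · subst e
        rw [map_neg, map_one, neg_neg] at hab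
        exact absurd hab.symm (one_ne_neg hF)
      · subst e; exact mt
      · refine mi mt ?_
        refine Subtype.ext (Subtype.ext ?_)
        show t.1.1 * (su2 C a 0 ha).1.1 = 1
        ext i j
        fin_cases i <;> fin_cases j <;> simp [t, su2, UCtx.mkSU, Matrix.mul_apply, Fin.sum_univ_two, e, hlb, hl]
    · have ha' : a * C.bar a = 1 := by simpa using ha
      rcases unit_cases (C := C) hF hl ha' with e | e | e | e
      · subst e; exact mw
      · refine mi mw ?_
        refine Subtype.ext (Subtype.ext ?_)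
        show w.1.1 * (su2 C 0 a ha).1.1 = 1
        ext i j
        fin_cases i <;> fin_cases j <;> simp [w, su2, UCtx.mkSU, Matrix.mul_apply, Fin.sum_univ_two, e]
      · refine mi (mul_mem mt mw) ?_
        refine Subtype.ext (Subtype.ext ?_)
        show t.1.1 * w.1.1 * (su2 C 0 a ha).1.1 = 1
        ext i j
        fin_cases i <;> fin_cases j <;>
          simp [t, w, su2, UCtx.mkSU, Matrix.mul_apply, Fin.sum_univ_two, e, hlb] <;> linear_combination -hl
      · have : su2 C 0 a ha = t * w := by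
          refine Subtype.ext (Subtype.ext ?_)
          show (su2 C 0 a ha).1.1 = t.1.1 * w.1.1
          ext i j
          fin_cases i <;> fin_cases j <;> simp [t, w, su2, UCtx.mkSU, Matrix.mul_apply, Fin.sum_univ_two, e, hlb]
        exact this ▸ mul_mem mt mw
  have hLall : L = ⊤ := by
    refine top_le_iff.1 ((closure_three (C := C) hF).ge.trans ((Subgroup.closure_le _).2 fun x hx => ?_))
    have hconj : ∀ {Y}, Y ∈ L → Y.1.1 * Y.1.1 = -1 → Commute Y (x⁻¹ * γ x) := fun {Y} hY hYY => by
      have h1 : γ (x * Y * x⁻¹) = x * Y * x⁻¹ := hL4 _ (by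
        show ((x * Y * x⁻¹) * (x * Y * x⁻¹) : ↥(Cfsg.SU 2 F 3)).1.1 = -1
        rw [show (x * Y * x⁻¹) * (x * Y * x⁻¹) = x * (Y * Y) * x⁻¹ by group]
        show x.1.1 * (Y.1.1 * Y.1.1) * (x⁻¹).1.1 = -1
        rw [hYY, Matrix.mul_neg, Matrix.mul_one, Matrix.neg_mul]
        exact congrArg Neg.neg (congrArg (fun X : ↥(Cfsg.SU 2 F 3) => X.1.1) (mul_inv_cancel x)))
      rw [map_mul, map_mul, map_inv, hLm.1 hY] at h1
      generalize γ x = y at h1
      show Y * (x⁻¹ * y) = x⁻¹ * y * Y
      calc Y * (x⁻¹ * y) = x⁻¹ * (x * Y * x⁻¹) * y := by group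
        _ = x⁻¹ * (y * Y * y⁻¹) * y := by rw [h1]
        _ = x⁻¹ * y * Y := by group
    obtain ⟨hz, hzall⟩ := centraliser_quat hF hl hlb hlu (hconj hγt htt) (hconj hγw hww)
    have hzc : Commute x (x⁻¹ * γ x) := hzall x
    have hx3 : x ^ 3 = 1 := hx
    have h3 : (x⁻¹ * γ x) ^ 3 = 1 := by
      rw [(Commute.inv_left (show Commute x (γ x) by
        have := hzc.eq
        show x * γ x = γ x * x
        calc x * γ x = x * (x * (x⁻¹ * γ x)) := by group
          _ = x * ((x⁻¹ * γ x) * x) := by rw [this]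
          _ = γ x * x := by group)).mul_pow, inv_pow, hx3, ← map_pow, hx3, map_one, inv_one, mul_one]
    refine hLm.2 (inv_mul_eq_one.1 ?_).symm
    generalize x⁻¹ * γ x = z at h3 hz
    rw [pow_succ, pow_two, hz, one_mul] at h3
    exact h3
  refine ⟨c, σ, hc, fun X i j => ?_⟩
  have h1 : β' (τ X) = α (τ X) := by
    have := hLm.1 (hLall.ge (Subgroup.mem_top (τ X)))
    exact (MulEquiv.symm_apply_eq α).1 this
  rw [show β X = β' (τ X) by show β X = β (τ (τ X)); rw [hττ], h1, hα, hτv]
  rfl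

end CfsgLib.Phan.Three
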