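import Cfsg.Agent.Lib.Phan.Three.Lift

/-!
# Three consecutive rank one groups inside an image of the unitary group of dimension four
-/

set_option autoImplicit false
set_option linter.all false

namespace CfsgLib.Phan.Three

open Matrix CfsgLib.SU CfsgLib.Phan CfsgLib.Lie.BoundedPres.SUBase
open CfsgLib.Lie.BoundedPres.SUGraph
open scoped commutatorElement

universe u

variable {F : Type u} [Field F] [Fintype F] {C : UCtx F 3} {G : Type*} [Group G]

/-- two matched pieces inside an image of `SU₄` -/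
structure Data (C : UCtx F 3) (g : ↥(Cfsg.SU 4 F 3) →* G) (φ₀ φ₁ : ↥(Cfsg.SU 3 F 3) →* G) : Prop where
  ker : g.ker ≤ Subgroup.center _
  glue : ∀ A, φ₀ (e1 C A) = φ₁ (e0 C A)
  i0 : Function.Injective (φ₀.comp (e0 C))
  i1 : Function.Injective (φ₀.comp (e1 C))
  i2 : Function.Injective (φ₁.comp (e1 C))
  comm : ∀ A B, Commute (φ₀ (e0 C A)) (φ₁ (e1 C B))
  r0 : φ₀.range ≤ g.range
  r1 : φ₁.range ≤ g.range
  n01 : ¬ ∀ A B, Commute (φ₀ (e0 C A)) (φ₀ (e1 C B))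
  n12 : ¬ ∀ A B, Commute (φ₁ (e0 C A)) (φ₁ (e1 C B))
  zc : ¬ Commute (φ₀ (e0 C (negTwo C))) (φ₀ (e1 C (wTwo C)))

variable {g : ↥(Cfsg.SU 4 F 3) →* G} {φ₀ φ₁ : ↥(Cfsg.SU 3 F 3) →* G}

theorem Data.comp (D : Data C g φ₀ φ₁) (α : MulAut ↥(Cfsg.SU 4 F 3)) : Data C (g.comp α.toMonoidHom) φ₀ φ₁ := by
  have hr : (g.comp α.toMonoidHom).range = g.range := by
    rw [MonoidHom.range_comp, MonoidHom.range_eq_top.2 α.surjective, MonoidHom.range_eq_map]
  refine { D with ker := fun z hz => ?_, r0 := hr ▸ D.r0, r1 := hr ▸ D.r1 }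
  have h1 : α z ∈ Subgroup.center _ := D.ker hz
  refine Subgroup.mem_center_iff.2 fun x => α.injective ?_
  rw [map_mul, map_mul]
  exact Subgroup.mem_center_iff.1 h1 (α x)

theorem conjHom_apply (M x : ↥(Cfsg.SU 4 F 3)) :
    (g.comp (MulAut.conj M).toMonoidHom) x = g M * g x * (g M)⁻¹ := by
  simp [MulAut.conj_apply]

/-- the permutation carrying the first block of dimension three to the second -/
theorem exists_shift : ∃ P : ↥(Cfsg.SU 3 F 3), ∀ A, e1 C A = P * e0 C A * P⁻¹ := by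
  refine ⟨pm C (finRotate 3).symm (by rw [Equiv.Perm.sign_symm, sign_finRotate]; simp), fun A => ?_⟩
  rw [pm_emb, mul_inv_cancel_right]
  refine emb_congr (funext fun j => ?_) A
  fin_cases j <;> simp [win, Fin.ext_iff, finRotate_succ_apply]

include C in
/-- two elements of order three which do not commute -/
theorem exists_noncomm (hF : Fintype.card F = 3 ^ 2) :
    ∃ A B : ↥(Cfsg.SU 2 F 3), A ^ 3 = 1 ∧ B ^ 3 = 1 ∧ ¬ Commute A B := by
  by_contra h
  push Not at h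
  have hall : ∀ x y : ↥(Cfsg.SU 2 F 3), Commute x y := by
    intro x y
    have h1 : ∀ a : ↥(Cfsg.SU 2 F 3), a ^ 3 = 1 → ∀ b, Commute a b := fun a ha b => by
      have : Subgroup.closure {z : ↥(Cfsg.SU 2 F 3) | z ^ 3 = 1} ≤ Subgroup.centralizer {a} :=
        (Subgroup.closure_le _).2 fun z hz => Subgroup.mem_centralizer_singleton_iff.2 (h z a hz ha).eq
      exact (Subgroup.mem_centralizer_singleton_iff.1 (this ((closure_three (C := C) hF).ge
        (Subgroup.mem_top b)))).symm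
    have : Subgroup.closure {z : ↥(Cfsg.SU 2 F 3) | z ^ 3 = 1} ≤ Subgroup.centralizer {y} :=
      (Subgroup.closure_le _).2 fun z hz => Subgroup.mem_centralizer_singleton_iff.2 (h1 z hz y).eq
    exact Subgroup.mem_centralizer_singleton_iff.1 (this ((closure_three (C := C) hF).ge (Subgroup.mem_top x)))
  obtain ⟨l, hl, hlb⟩ := exists_root (C := C) hF
  have h10 := congrFun (congrFun (mat_comm (hall (su2 C l 0 (by rw [hlb]; linear_combination -hl))
    (wTwo C))) 1) 0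
  simp [wTwo, su2, UCtx.mkSU, Matrix.mul_apply, Fin.sum_univ_two, hlb] at h10
  have h2 : (2 : F) * l = 0 := by linear_combination -h10
  have h3 := (mul_eq_zero.1 h2).resolve_left (two_ne hF)
  rw [h3] at hl
  simp at hl

theorem bk_prod_inj {A A' B B' : ↥(Cfsg.SU 2 F 3)}
    (h : bk C 0 (by norm_num) A * bk C 2 (by norm_num) B = bk C 0 (by norm_num) A' * bk C 2 (by norm_num) B') :
    A = A' ∧ B = B' := by
  have hA : A = A' := by
    refine su_ext fun v => ?_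
    rw [mulVec_eq_sum, mulVec_eq_sum (A := A')]
    refine Finset.sum_congr rfl fun j _ => congrArg _ ?_
    have hd : ∀ k, win (n := 4) 2 2 (by norm_num) k ≠ win (n := 4) 2 0 (by norm_num) j := fun k e => by
      have := congrArg Fin.val e; simp only [win] at this; omega
    have h1 := congrArg (fun X : ↥(Cfsg.SU 4 F 3) => X.1.1 *ᵥ sv (win (n := 4) 2 0 (by norm_num) j)) h
    simp only [suMat_mulVec_mul, emb_fix _ hd, emb_sv] at h1
    have h2 := congrArg (fun u => (inc F (win (n := 4) 2 0 (by norm_num)))ᵀ *ᵥ u) h1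
    simpa only [Matrix.mulVec_mulVec, inc_tr_inc win_inj, Matrix.one_mulVec, ← Matrix.mul_assoc,
      Matrix.one_mul] using h2
  subst hA
  exact ⟨rfl, emb_injective (mul_left_cancel h)⟩

/-- the exchange of the outer blocks -/
theorem exists_swap : ∃ P : ↥(Cfsg.SU 4 F 3), ∀ A,
    P * bk C 0 (by norm_num) A * P⁻¹ = bk C 2 (by norm_num) A ∧
    P * bk C 2 (by norm_num) A * P⁻¹ = bk C 0 (by norm_num) A := by
  refine ⟨pm C (Equiv.swap 0 2 * Equiv.swap 1 3) (by decide), fun A => ⟨?_, ?_⟩⟩ <;>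
    · rw [pm_emb, mul_inv_cancel_right]
      refine emb_congr ?_ A
      funext j
      fin_cases j <;> decide

/-- the outer blocks -/
theorem Data.outer (hF : Fintype.card F = 3 ^ 2) (D : Data C g φ₀ φ₁) :
    ∃ α : MulAut ↥(Cfsg.SU 4 F 3),
      ((g.comp α.toMonoidHom).comp (bk C 0 (by norm_num))).range = (φ₀.comp (e0 C)).range ∧
      ((g.comp α.toMonoidHom).comp (bk C 2 (by norm_num))).range = (φ₁.comp (e1 C)).range := by
  classical
  obtain ⟨l, hl, hlb⟩ := exists_root (C := C) hF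
  set t := su2 C l 0 (by rw [hlb]; linear_combination -hl) with ht
  have htt : t * t = negTwo C := sq_negTwo (su2_sq hlb)
  have hww : wTwo C * wTwo C = negTwo C := sq_negTwo (su2_sq (by simp))
  have htw : t * wTwo C = negTwo C * (wTwo C * t) := by
    refine Subtype.ext (Subtype.ext ?_)
    show t.1.1 * (wTwo C).1.1 = (negTwo C).1.1 * ((wTwo C).1.1 * t.1.1)
    ext i j
    fin_cases i <;> fin_cases j <;>
      simp [t, wTwo, negTwo, su2, UCtx.mkSU, Matrix.mul_apply, Fin.sum_univ_two, hlb]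
  set a := φ₀.comp (e0 C) with ha
  set c := φ₁.comp (e1 C) with hc
  obtain ⟨T, hT⟩ := D.r0 ⟨e0 C t, rfl⟩
  obtain ⟨W, hW⟩ := D.r0 ⟨e0 C (wTwo C), rfl⟩
  set z := T * W * (W * T)⁻¹ with hz
  have hgz : g z = a (negTwo C) := by
    rw [hz, map_mul, map_mul, map_inv, map_mul, hT, hW]
    show a t * a (wTwo C) * (a (wTwo C) * a t)⁻¹ = _
    rw [← map_mul, ← map_mul, ← map_inv, ← map_mul, htw, mul_inv_cancel_right]
  have hzz : z * z = 1 := by
    refine sq_one_of_comm (show T * W = z * (W * T) by rw [hz, inv_mul_cancel_right]) (D.ker ?_) (D.ker ?_)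
    · rw [MonoidHom.mem_ker, map_mul, map_inv, hgz, map_mul, hT]
      show (a (negTwo C))⁻¹ * (a t * a t) = 1
      rw [← map_mul, htt, inv_mul_cancel]
    · rw [MonoidHom.mem_ker, map_mul, map_inv, hgz, map_mul, hW]
      show (a (negTwo C))⁻¹ * (a (wTwo C) * a (wTwo C)) = 1
      rw [← map_mul, hww, inv_mul_cancel]
  have hzc : z ∉ Subgroup.center _ := fun h => by
    obtain ⟨V, hV⟩ := D.r0 ⟨e1 C (wTwo C), rfl⟩
    refine D.zc ?_
    show a (negTwo C) * φ₀ (e1 C (wTwo C)) = φ₀ (e1 C (wTwo C)) * a (negTwo C)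
    rw [← hgz, ← hV, ← map_mul, ← map_mul, Subgroup.mem_center_iff.1 h V]
  obtain ⟨M, hM⟩ := invol_frame hF hzz hzc
  set g₁ := g.comp (MulAut.conj M).toMonoidHom with hg₁
  have D₁ : Data C g₁ φ₀ φ₁ := D.comp _
  have hd : g₁ (dInv C) = a (negTwo C) := by
    show g (MulAut.conj M (dInv C)) = _
    rw [← hgz, MulAut.conj_apply, ← hM]
    congr 1; group
  have hlift : ∀ {y : G}, y ∈ g₁.range → y ^ 3 = 1 → Commute y (a (negTwo C)) →
      ∃ A B, A ^ 3 = 1 ∧ B ^ 3 = 1 ∧ g₁ (bk C 0 (by norm_num) A * bk C 2 (by norm_num) B) = y := by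
    intro y hy h3 hcy
    obtain ⟨x, hx, rfl⟩ := exists_three (C := C) D₁.ker hy h3
    rw [← hd] at hcy
    obtain ⟨A, B, hA, hB, rfl⟩ := block_split hF hx (commute_lift (C := C) D₁.ker hx hcy)
    exact ⟨A, B, hA, hB, rfl⟩
  have la : ∀ X, X ^ 3 = 1 → ∃ A B, A ^ 3 = 1 ∧ B ^ 3 = 1 ∧
      g₁ (bk C 0 (by norm_num) A * bk C 2 (by norm_num) B) = a X := fun X hX =>
    hlift (D₁.r0 ⟨e0 C X, rfl⟩) (by rw [← map_pow, hX, map_one])
      (((negTwo_central X).symm.map a))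
  have lc : ∀ X, X ^ 3 = 1 → ∃ A B, A ^ 3 = 1 ∧ B ^ 3 = 1 ∧
      g₁ (bk C 0 (by norm_num) A * bk C 2 (by norm_num) B) = c X := fun X hX =>
    hlift (D₁.r1 ⟨e1 C X, rfl⟩) (by rw [← map_pow, hX, map_one]) (D.comm (negTwo C) X).symm
  choose p1 p2 hp1 hp2 hp using la
  choose q1 q2 hq1 hq2 hq using lc
  have h3 : ∀ {A B : ↥(Cfsg.SU 2 F 3)}, A ^ 3 = 1 → B ^ 3 = 1 →
      (bk C 0 (by norm_num) A * bk C 2 (by norm_num) B) ^ 3 = 1 := fun {A B} hA hB => by
    rw [(embW_commute (by norm_num) A B).mul_pow, ← map_pow, ← map_pow, hA, hB, map_one, map_one, one_mul]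
  have hswap : ∀ (A B A' B' : ↥(Cfsg.SU 2 F 3)),
      bk C 0 (by norm_num) A * bk C 2 (by norm_num) B * (bk C 0 (by norm_num) A' * bk C 2 (by norm_num) B') =
        bk C 0 (by norm_num) (A * A') * bk C 2 (by norm_num) (B * B') := fun A B A' B' => by
    rw [map_mul, map_mul]
    have := (embW_commute (C := C) (n := 4) (h := show 0 + 2 ≤ 4 by norm_num)
      (h' := show 2 + 2 ≤ 4 by norm_num) le_rfl A' B).eq
    simp only [mul_assoc]
    rw [← mul_assoc (bk C 2 _ B), ← this, mul_assoc]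
  have hboth : ∀ X hX Y hY, Commute (p1 X hX) (q1 Y hY) ∧ Commute (p2 X hX) (q2 Y hY) := fun X hX Y hY => by
    have hcm : Commute (g₁ (bk C 0 (by norm_num) (p1 X hX) * bk C 2 (by norm_num) (p2 X hX)))
        (g₁ (bk C 0 (by norm_num) (q1 Y hY) * bk C 2 (by norm_num) (q2 Y hY))) := by
      rw [hp, hq]; exact D.comm X Y
    have := (commute_lift (C := C) D₁.ker (h3 (hp1 X hX) (hp2 X hX)) hcm).eq
    rw [hswap, hswap] at this
    exact bk_prod_inj this
  obtain ⟨X, X', hX, hX', hXX⟩ := exists_noncomm (C := C) hF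
  have sep : ∀ {k : ↥(Cfsg.SU 2 F 3) →* G} (r1 r2 : ∀ Z, Z ^ 3 = 1 → ↥(Cfsg.SU 2 F 3)),
      Function.Injective k → (∀ Z hZ, g₁ (bk C 0 (by norm_num) (r1 Z hZ) * bk C 2 (by norm_num) (r2 Z hZ)) = k Z) →
      ¬ (Commute (r1 X hX) (r1 X' hX') ∧ Commute (r2 X hX) (r2 X' hX')) := by
    rintro k r1 r2 hk hr ⟨h1, h2⟩
    refine hXX (hk ?_)
    rw [map_mul, map_mul, ← hr X hX, ← hr X' hX', ← map_mul, ← map_mul, hswap, hswap, h1.eq, h2.eq]
  have ka := inj_bk (C := C) D₁.ker (i := 0) (by norm_num)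
  have kc := inj_bk (C := C) D₁.ker (i := 2) (by norm_num)
  have other : ∀ {r s : ↥(Cfsg.SU 2 F 3)}, r ^ 3 = 1 → s ^ 3 = 1 →
      ∀ {u : ↥(Cfsg.SU 2 F 3)}, u ^ 3 = 1 → Commute u r → Commute u s → ¬ Commute r s → u = 1 :=
    fun {r s} hr hs {u} hu hur hus hrs => by
      by_contra h
      exact hrs (three_commute (C := C) hF hu h hr hs hur hus)
  by_cases hqe : ∃ Y hY, q1 Y hY ≠ 1
  · obtain ⟨Y, hY, hY1⟩ := hqe
    have hp1c : Commute (p1 X hX) (p1 X' hX') := three_commute (C := C) hF (hq1 Y hY) hY1 (hp1 X hX) (hp1 X' hX')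
      (hboth X hX Y hY).1.symm (hboth X' hX' Y hY).1.symm
    have hp2n : ¬ Commute (p2 X hX) (p2 X' hX') := fun h => sep p1 p2 D.i0 hp ⟨hp1c, h⟩
    have hq2z : ∀ Z hZ, q2 Z hZ = 1 := fun Z hZ =>
      other (hp2 X hX) (hp2 X' hX') (hq2 Z hZ) (hboth X hX Z hZ).2.symm (hboth X' hX' Z hZ).2.symm hp2n
    have hq1n : ¬ Commute (q1 X hX) (q1 X' hX') := fun h =>
      sep q1 q2 D.i2 hq ⟨h, by rw [hq2z, hq2z]⟩
    have hp1z : ∀ Z hZ, p1 Z hZ = 1 := fun Z hZ =>
      other (hq1 X hX) (hq1 X' hX') (hp1 Z hZ) (hboth Z hZ X hX).1 (hboth Z hZ X' hX').1 hq1n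
    obtain ⟨P, hP⟩ := exists_swap (C := C)
    refine ⟨(MulAut.conj M) * (MulAut.conj P), ?_, ?_⟩
    · refine (range_eq_of (C := C) hF D.i0 (inj_bk (C := C) (D₁.comp (MulAut.conj P)).ker _) fun Z hZ => ?_).symm
      refine ⟨p2 Z hZ, ?_⟩
      show g₁ (MulAut.conj P (bk C 0 _ (p2 Z hZ))) = a Z
      rw [MulAut.conj_apply, (hP _).1, ← hp Z hZ, hp1z, map_one, one_mul]
    · refine (range_eq_of (C := C) hF D.i2 (inj_bk (C := C) (D₁.comp (MulAut.conj P)).ker _) fun Z hZ => ?_).symm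
      refine ⟨q1 Z hZ, ?_⟩
      show g₁ (MulAut.conj P (bk C 2 _ (q1 Z hZ))) = c Z
      rw [MulAut.conj_apply, (hP _).2]
      rw [← hq Z hZ, hq2z, map_one, mul_one]
  · push Not at hqe
    have hq2n : ¬ Commute (q2 X hX) (q2 X' hX') := fun h => sep q1 q2 D.i2 hq ⟨by rw [hqe, hqe], h⟩
    have hp2z : ∀ Z hZ, p2 Z hZ = 1 := fun Z hZ =>
      other (hq2 X hX) (hq2 X' hX') (hp2 Z hZ) (hboth Z hZ X hX).2 (hboth Z hZ X' hX').2 hq2n
    refine ⟨MulAut.conj M, ?_, ?_⟩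
    · refine (range_eq_of (C := C) hF D.i0 ka fun Z hZ => ⟨p1 Z hZ, ?_⟩).symm
      show g₁ (bk C 0 _ (p1 Z hZ)) = a Z
      rw [← hp Z hZ, hp2z, map_one, mul_one]
    · refine (range_eq_of (C := C) hF D.i2 kc fun Z hZ => ⟨q2 Z hZ, ?_⟩).symm
      show g₁ (bk C 2 _ (q2 Z hZ)) = c Z
      rw [← hq Z hZ, hqe, map_one, one_mul]

end CfsgLib.Phan.Three
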